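import Cfsg.Agent.H820.SevenL32
import Cfsg.Agent.H771.RowCoTwo
import Cfsg.Agent.H874.Tor.CoTwoThree
import Cfsg.Agent.H474.RealCo.Three
import Cfsg.Agent.H149.Sp.CopCoMain
import Cfsg.Agent.Schreier.Co1
import Cfsg.Agent.Co2Type.CardCo2
import Cfsg.Agent.CpAutON.Gen
import Cfsg.Agent.Lib.Dihedral

/-!
# The centralizer of an element of order seven of `Co₂` (helper633)

`|C(x)| = 56`, `C(x)` is nonabelian and `x` is real.
-/

set_option autoImplicit false

namespace Cfsg.Agent.H633.Dl.Co2Seven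

open Cfsg Subgroup
open Cfsg.Agent.H820.SevenL32 (Phi ker_Phi)
open Cfsg.Agent.H149.Sp.CopCo (f2 f2_inj f2_fix)
open Cfsg.Agent.SporadicA.Co0Mono (signCo0)
open Cfsg.Agent.SporadicA.Co1Simple (allOne)

/-! ### General facts -/

/-- If some 2-subgroup is nonabelian, then so are the subgroups of odd index which are 2-groups. -/
theorem noncomm_of_sylow {G : Type*} [Group G] [Finite G] {Q : Subgroup G} (hQ : IsPGroup 2 Q) {a b : G} (ha : a ∈ Q)
    (hb : b ∈ Q) (hab : a * b ≠ b * a) {T : Subgroup G} (hT : IsPGroup 2 T) (hi : ¬ 2 ∣ T.index) :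
    ∃ c ∈ T, ∃ d ∈ T, c * d ≠ d * c := by
  have : Fact (Nat.Prime 2) := ⟨Nat.prime_two⟩
  obtain ⟨P, hP⟩ := hQ.exists_le_sylow
  let T' : Sylow 2 G := hT.toSylow hi
  obtain ⟨g, hg⟩ := MulAction.exists_smul_eq G P T'
  have key : ∀ c ∈ Q, g * c * g⁻¹ ∈ T := by
    intro c hc
    have h1 : g * c * g⁻¹ ∈ (T' : Subgroup G) := by
      rw [← hg, Sylow.coe_subgroup_smul]
      exact Subgroup.smul_mem_pointwise_smul c (MulAut.conj g) (P : Subgroup G) (hP hc)
    exact h1
  refine ⟨_, key a ha, _, key b hb, fun h => hab ?_⟩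
  have h1 : g * (a * b) * g⁻¹ = g * (b * a) * g⁻¹ := by
    calc g * (a * b) * g⁻¹ = g * a * g⁻¹ * (g * b * g⁻¹) := by group
      _ = g * b * g⁻¹ * (g * a * g⁻¹) := h
      _ = _ := by group
  exact mul_left_cancel (mul_right_cancel h1)

/-- A real element of odd prime order. -/
theorem two_dvd_range {G : Type*} [Group G] [Finite G] {p : ℕ} [hp : Fact p.Prime] (hp2 : p ≠ 2) {x : G}
    (hx : orderOf x = p) {t : G} (ht : t * x * t⁻¹ = x⁻¹) :
    2 ∣ Nat.card ↥((zpowers x).normalizerMonoidHom).range := by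
  have htN : t ∈ normalizer ((zpowers x : Subgroup G) : Set G) := by
    have h1 : (zpowers x).map (MulAut.conj t).toMonoidHom = zpowers x := by
      rw [MonoidHom.map_zpowers]
      show zpowers (t * x * t⁻¹) = _
      rw [ht, zpowers_inv]
    rw [mem_normalizer_iff]
    intro y
    constructor
    · intro hy
      rw [← h1]
      exact ⟨y, hy, rfl⟩
    · intro hy
      have h7 : t * y * t⁻¹ ∈ (zpowers x).map (MulAut.conj t).toMonoidHom := by rw [h1]; exact hy
      obtain ⟨z, hz, hz2⟩ := h7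
      have h8 : z = y := (MulAut.conj t).injective hz2
      rwa [← h8]
  set φ := (zpowers x).normalizerMonoidHom with hφ
  let a : ↥φ.range := ⟨φ ⟨t, htN⟩, ⟨_, rfl⟩⟩
  have hker : ∀ g : ↥(normalizer ((zpowers x : Subgroup G) : Set G)), φ g = 1 ↔ (g : G) * x = x * g := by
    intro g
    rw [← MonoidHom.mem_ker, hφ, Subgroup.normalizerMonoidHom_ker, mem_subgroupOf, mem_centralizer_iff]
    constructor
    · intro h
      exact (h x (mem_zpowers x)).symm
    · intro h y hy
      obtain ⟨k, rfl⟩ := mem_zpowers_iff.1 hy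
      exact ((Commute.zpow_left (show Commute x (g : G) from h.symm) k)).eq
  have ho : orderOf a = 2 := by
    have : Fact (Nat.Prime 2) := ⟨Nat.prime_two⟩
    refine orderOf_eq_prime ?_ ?_
    · apply Subtype.ext
      show φ ⟨t, htN⟩ ^ 2 = 1
      rw [← map_pow, hker]
      show t ^ 2 * x = x * t ^ 2
      have h1 : t * x = x⁻¹ * t := by rw [← ht]; group
      have h2 : t * x⁻¹ = x * t := by
        calc t * x⁻¹ = x * (x⁻¹ * t) * x⁻¹ := by group
          _ = x * (t * x) * x⁻¹ := by rw [h1]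
          _ = x * t := by group
      calc t ^ 2 * x = t * (t * x) := by rw [pow_two, mul_assoc]
        _ = t * x⁻¹ * t := by rw [h1, mul_assoc]
        _ = x * t ^ 2 := by rw [h2, pow_two, mul_assoc]
    · intro h
      have h1 : φ ⟨t, htN⟩ = 1 := congrArg Subtype.val h
      rw [hker] at h1
      change t * x = x * t at h1
      have h2 : x = x⁻¹ := by
        rw [← ht, h1, mul_inv_cancel_right]
      have h3 : x ^ 2 = 1 := by
        rw [pow_two]
        nth_rewrite 1 [h2]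
        rw [inv_mul_cancel]
      have h4 : p ∣ 2 := hx ▸ orderOf_dvd_of_pow_eq_one h3
      exact hp2 ((Nat.prime_dvd_prime_iff_eq hp.out Nat.prime_two).1 h4)
  rw [← ho]
  exact orderOf_dvd_natCard a

/-! ### `SL(3, 2)` -/

/-- elementary matrices -/
def e12 : Cfsg.Agent.H820.SL32.S3 := ⟨!![1, 1, 0; 0, 1, 0; 0, 0, 1], by decide⟩

@[inherit_doc e12] def e23 : Cfsg.Agent.H820.SL32.S3 := ⟨!![1, 0, 0; 0, 1, 1; 0, 0, 1], by decide⟩

theorem sl_noncomm {T : Subgroup Cfsg.Agent.H820.SL32.S3} (hT : Nat.card T = 8) :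
    ∃ c ∈ T, ∃ d ∈ T, c * d ≠ d * c := by
  have hfin := Cfsg.Agent.H820.SL32.finite
  have hr : (e12 * e23) ^ 4 = 1 := by decide
  have hs : e12 * e12 = 1 := by decide
  have hsr : e12 * (e12 * e23) * e12 = (e12 * e23)⁻¹ := by
    rw [eq_inv_iff_mul_eq_one]
    decide
  have hQ : IsPGroup 2 (Cfsg.Agent.Lib.Dihedral.lift 4 (e12 * e23) e12 hr hs hsr).range := by
    have h1 : IsPGroup 2 (DihedralGroup 4) := IsPGroup.of_card (n := 3) (by rw [DihedralGroup.nat_card]; norm_num)
    exact h1.of_surjective _ (MonoidHom.rangeRestrict_surjective _)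
  refine noncomm_of_sylow hQ (a := e12 * e23) (b := e12) ⟨DihedralGroup.r 1, ?_⟩ ⟨DihedralGroup.sr 0, ?_⟩ (by decide)
    (IsPGroup.of_card (n := 3) (by rw [hT]; norm_num)) ?_
  · exact Cfsg.Agent.Lib.Dihedral.lift_r_one _ _ _ _ _
  · rw [Cfsg.Agent.Lib.Dihedral.lift_sr, Cfsg.Agent.Lib.Dihedral.rot_zero, mul_one]
  · have h1 := Subgroup.card_mul_index T
    rw [hT, Cfsg.Agent.H820.SL32.card] at h1
    omega

/-! ### `Co₂` -/

theorem finite : Finite Spor.Co2 := Cfsg.Agent.Co2Type.CardCo2.finite_co2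

theorem exists_hom {x : Spor.Co2} (hx : orderOf x = 7) :
    ∃ ψ : ↥(centralizer ({x} : Set Spor.Co2)) →* Cfsg.Agent.H820.SL32.S3,
      ψ.ker = (zpowers x).subgroupOf (centralizer ({x} : Set Spor.Co2)) := by
  have h7 : orderOf (f2 x) = 7 := (orderOf_injective f2 f2_inj x).trans hx
  obtain ⟨h, hh⟩ := isConj_iff.1 (CpAutMSeven.RanksH.isConj_r7 h7 PreUniqCo.Rows.leechU_ne (f2_fix x))
  have hmem : ∀ g : ↥(centralizer ({x} : Set Spor.Co2)), (QuotientGroup.mk (h * f2 g * h⁻¹) : Spor.Co1) ∈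
      centralizer ({CpAutMSeven.RanksH.s0} : Set Spor.Co1) := by
    intro g
    rw [mem_centralizer_singleton_iff]
    have h1 : (g : Spor.Co2) * x = x * g := mem_centralizer_singleton_iff.1 g.2
    have h2 : h * f2 g * h⁻¹ * (h * f2 x * h⁻¹) = h * f2 x * h⁻¹ * (h * f2 g * h⁻¹) := by
      calc h * f2 g * h⁻¹ * (h * f2 x * h⁻¹) = h * (f2 g * f2 x) * h⁻¹ := by group
        _ = h * (f2 x * f2 g) * h⁻¹ := by rw [← map_mul, h1, map_mul]
        _ = _ := by group
    rw [hh] at h2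
    have h3 := congrArg (QuotientGroup.mk : Co0 → Spor.Co1) h2
    exact h3
  let φ : ↥(centralizer ({x} : Set Spor.Co2)) →* ↥(centralizer ({CpAutMSeven.RanksH.s0} : Set Spor.Co1)) :=
    { toFun := fun g => ⟨QuotientGroup.mk (h * f2 g * h⁻¹), hmem g⟩
      map_one' := Subtype.ext (by
        show (QuotientGroup.mk (h * f2 1 * h⁻¹) : Spor.Co1) = 1
        rw [map_one, mul_one, mul_inv_cancel]
        rfl)
      map_mul' := fun a b => Subtype.ext (by
        show (QuotientGroup.mk (h * f2 (a * b) * h⁻¹) : Spor.Co1) =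
          QuotientGroup.mk (h * f2 a * h⁻¹) * QuotientGroup.mk (h * f2 b * h⁻¹)
        rw [← QuotientGroup.mk_mul]
        congr 1
        rw [map_mul]
        group) }
  refine ⟨Phi.comp φ, ?_⟩
  ext g
  rw [MonoidHom.mem_ker, MonoidHom.comp_apply, ← MonoidHom.mem_ker, ker_Phi, mem_subgroupOf]
  constructor
  · intro hg
    obtain ⟨k, hk⟩ := mem_zpowers_iff.1 (show φ g ∈ zpowers (Cfsg.Agent.LThreeMB.self CpAutMSeven.RanksH.s0) from hg)
    have h1 : (QuotientGroup.mk (CpAutBig.SevenFix.r7 ^ k) : Spor.Co1) = QuotientGroup.mk (h * f2 g * h⁻¹) := by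
      have h2 := congrArg (Subtype.val) hk
      exact h2
    rw [QuotientGroup.eq] at h1
    have h3 : (CpAutBig.SevenFix.r7 ^ k)⁻¹ * (h * f2 g * h⁻¹) = h * f2 (x ^ (-k) * g) * h⁻¹ := by
      rw [← hh, conj_zpow, map_mul, map_zpow]
      group
    rw [h3] at h1
    rcases Schreier.Co1.mem_center.1 h1 with h4 | h4
    · have h5 : f2 (x ^ (-k) * g) = 1 := by
        calc f2 (x ^ (-k) * g) = h⁻¹ * (h * f2 (x ^ (-k) * g) * h⁻¹) * h := by group
          _ = 1 := by rw [h4]; group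
      have h6 : x ^ (-k) * (g : Spor.Co2) = 1 := f2_inj (by rw [h5, map_one])
      have h7 : (g : Spor.Co2) = x ^ k := by
        rw [zpow_neg, inv_mul_eq_one] at h6
        exact h6.symm
      rw [h7]
      exact zpow_mem_zpowers x k
    · exfalso
      have h5 : f2 (x ^ (-k) * g) = signCo0 allOne := by
        have h6 : f2 (x ^ (-k) * g) = h⁻¹ * (signCo0 allOne) * h := by
          rw [← h4]; group
        have h7 : h * signCo0 allOne = signCo0 allOne * h :=
          Subgroup.mem_center_iff.1 (Schreier.Co1.mem_center.2 (Or.inr rfl)) h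
        rw [h6, mul_assoc, ← h7, inv_mul_cancel_left]
      have h6 := f2_fix (x ^ (-k) * g)
      rw [h5, SporadicA.Co1Simple.allOne_smul] at h6
      exact PreUniqCo.Rows.leechU_ne (by
        apply Subtype.ext
        funext i
        have h8 := congrFun (congrArg Subtype.val h6) i
        change -((Spor.leechU : leechLattice) : GolayPt → ℤ) i = ((Spor.leechU : leechLattice) : GolayPt → ℤ) i at h8
        show ((Spor.leechU : leechLattice) : GolayPt → ℤ) i = 0
        omega)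
  · intro hg
    obtain ⟨k, hk⟩ := mem_zpowers_iff.1 hg
    show φ g ∈ zpowers (Cfsg.Agent.LThreeMB.self CpAutMSeven.RanksH.s0)
    refine mem_zpowers_iff.2 ⟨k, ?_⟩
    apply Subtype.ext
    show (QuotientGroup.mk (CpAutBig.SevenFix.r7 ^ k) : Spor.Co1) = QuotientGroup.mk (h * f2 g * h⁻¹)
    congr 1
    rw [← hk, map_zpow, ← conj_zpow, hh]

/-- **Elements of order seven of `Co₂`.** -/
theorem main : ∃ x : Spor.Co2, orderOf x = 7 ∧ IsConj x x⁻¹ ∧
    Nat.card (centralizer ({x} : Set Spor.Co2)) = 8 * 7 ∧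
    ∃ a b : Spor.Co2, Commute a x ∧ Commute b x ∧ a * b ≠ b * a := by
  have hfin := finite
  have hp7 : Fact (Nat.Prime 7) := ⟨by norm_num⟩
  obtain ⟨x, t, hx, -, ht⟩ := H474.RealCo.co2_seven
  have hcard : Nat.card Spor.Co2 = 42305421312000 := Cfsg.Agent.Co2Type.CardCo2.card_co2
  obtain ⟨ψ, hψ⟩ := exists_hom hx
  have hfinS := Cfsg.Agent.H820.SL32.finite
  have hC : Nat.card (centralizer ({x} : Set Spor.Co2)) = 7 * Nat.card ψ.range := by
    have h1 := Subgroup.card_eq_card_quotient_mul_card_subgroup ψ.ker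
    rw [Nat.card_congr (QuotientGroup.quotientKerEquivRange ψ).toEquiv] at h1
    have h2 : Nat.card ψ.ker = 7 := by
      rw [hψ]
      have hle : zpowers x ≤ centralizer ({x} : Set Spor.Co2) := by
        rw [zpowers_le]
        exact mem_centralizer_singleton_iff.2 rfl
      rw [Nat.card_congr (subgroupOfEquivOfLe hle).toEquiv, Nat.card_zpowers, hx]
    rw [h2, mul_comm] at h1
    exact h1
  have hr : Nat.card ψ.range ∣ 168 := by
    rw [← Cfsg.Agent.H820.SL32.card]
    exact Subgroup.card_subgroup_dvd_card _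
  have h49 : ¬ 7 ^ 2 ∣ Nat.card Spor.Co2 := by rw [hcard]; norm_num
  have hr7 : ¬ 7 ∣ Nat.card ψ.range := by
    intro h
    apply h49
    refine dvd_trans ?_ (Subgroup.card_subgroup_dvd_card (centralizer ({x} : Set Spor.Co2)))
    rw [hC, pow_two]
    exact mul_dvd_mul_left 7 h
  have hr3 : ¬ 3 ∣ Nat.card ψ.range := by
    intro h
    have : Fact (Nat.Prime 3) := ⟨Nat.prime_three⟩
    obtain ⟨w, hw⟩ := exists_prime_orderOf_dvd_card' (G := centralizer ({x} : Set Spor.Co2)) 3
      (by rw [hC]; exact h.mul_left 7)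
    have h1 : orderOf (w : Spor.Co2) = 3 := by rw [Subgroup.orderOf_coe, hw]
    have h2 : (w : Spor.Co2) * x = x * w := mem_centralizer_singleton_iff.1 w.2
    have h3 := H771.RowCoTwo.no_comm h1 (by rw [← hx, pow_orderOf_eq_one]) h2
    rw [h3, orderOf_one] at hx
    omega
  have hr2 : 2 ∣ Nat.card ψ.range := by
    have h1 := H874.Tor.coTwo_seven hx
    rw [hC] at h1
    exact (Nat.Coprime.dvd_of_dvd_mul_left (by norm_num) h1)
  have he2 := two_dvd_range (p := 7) (by norm_num) hx ht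
  have he6 : Nat.card ↥((zpowers x).normalizerMonoidHom).range ∣ 6 := by
    have h2 := Subgroup.card_subgroup_dvd_card ((zpowers x).normalizerMonoidHom).range
    rwa [CpAutON.Gen.card_mulAut hx] at h2
  obtain ⟨n, hn, hc⟩ := CpAutON.Gen.card_eq h49 hx
  rw [hC, hcard] at hc
  have h8 : Nat.card ψ.range = 8 := by
    obtain ⟨r, hr'⟩ : ∃ r, r = Nat.card ψ.range := ⟨_, rfl⟩
    obtain ⟨e, he'⟩ : ∃ e, e = Nat.card ↥((zpowers x).normalizerMonoidHom).range := ⟨_, rfl⟩
    rw [← hr'] at hr hr7 hr3 hr2 hc ⊢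
    rw [← he'] at he2 he6 hc
    have he : e = 2 ∨ e = 6 := by
      have h1 : e ≤ 6 := Nat.le_of_dvd (by norm_num) he6
      interval_cases e <;> omega
    have hrr : r = 2 ∨ r = 4 ∨ r = 8 := by
      have h1 : r ∣ 8 := by
        have h2 : r ∣ 8 * 21 := hr
        refine Nat.Coprime.dvd_of_dvd_mul_right ?_ h2
        rw [show (21 : ℕ) = 3 * 7 by norm_num]
        exact Nat.Coprime.mul_right (((Nat.Prime.coprime_iff_not_dvd Nat.prime_three).2 hr3).symm)
          (((Nat.Prime.coprime_iff_not_dvd (by norm_num)).2 hr7).symm)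
      have h3 : r ≤ 8 := Nat.le_of_dvd (by norm_num) h1
      interval_cases r <;> omega
    rcases he with rfl | rfl <;> rcases hrr with rfl | rfl | rfl <;> omega
  refine ⟨x, hx, isConj_iff.2 ⟨t, ht⟩, by rw [hC, h8], ?_⟩
  obtain ⟨c, ⟨a, rfl⟩, d, ⟨b, rfl⟩, hcd⟩ := sl_noncomm h8
  refine ⟨a, b, mem_centralizer_singleton_iff.1 a.2, mem_centralizer_singleton_iff.1 b.2, fun hab => hcd ?_⟩
  rw [← map_mul, ← map_mul]
  congr 1
  exact Subtype.ext hab

end Cfsg.Agent.H633.Dl.Co2Seven
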