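import Cfsg.Agent.H246.Dl.Defs
import Cfsg.Agent.H651.Two.Base

/-!
# `Many` for groups without outer automorphisms (helper633; S4769)
-/

set_option autoImplicit false

namespace Cfsg.Agent.H633.Dl

open Cfsg
open Cfsg.Agent.H246.Dl

universe u

/-- All automorphisms are inner: distinct characters suffice. -/
theorem many_of_inner {p : ℕ} {S : Type u} [Group S] (hin : ∀ σ : MulAut S, ∃ g : S, σ = MulAut.conj g) {m : ℕ}
    (χ : Fin m → IrrCharacter S) (hinj : Function.Injective χ) (hχ : ∀ i, p ∣ charDegree (χ i : S → ℂ)) :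
    Many p S m := by
  refine ⟨χ, hχ, fun i j hij σ => ?_⟩
  by_contra hcon
  push Not at hcon
  apply hij
  apply hinj
  obtain ⟨g, hg⟩ := hin σ
  apply Subtype.ext
  funext s
  rw [← hcon s]
  have h1 : σ s = g * s * g⁻¹ := by
    have h2 := DFunLike.congr_fun hg s
    rw [h2]
    rfl
  rw [h1]
  exact (Cfsg.Agent.Blocks.Basic.irr_conj (χ i).2 s g).symm

/-- The number of characters of degree divisible by `p`. -/
theorem many_of_ND {p : ℕ} {S : Type u} [Group S] [Finite S] (hin : ∀ σ : MulAut S, ∃ g : S, σ = MulAut.conj g)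
    {m : ℕ} (h : m ≤ H651.Two.ND p S) : Many p S m := by
  classical
  have hfin : Finite (IrrCharacter S) := Cfsg.Agent.Characters.Core.finite_irr
  have := Fintype.ofFinite (H651.Two.PD p S)
  have h1 : Fintype.card (Fin m) ≤ Fintype.card (H651.Two.PD p S) := by
    rw [Fintype.card_fin, ← Nat.card_eq_fintype_card]
    exact h
  obtain ⟨f⟩ := Function.Embedding.nonempty_of_card_le h1
  exact many_of_inner hin (fun i => (f i : IrrCharacter S))
    (fun a b hab => f.injective (Subtype.ext hab)) (fun i => (f i).2)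

theorem inner_of_range {S : Type u} [Group S] (h : (MulAut.conj : S →* MulAut S).range = ⊤) :
    ∀ σ : MulAut S, ∃ g : S, σ = MulAut.conj g := by
  intro σ
  have h1 : σ ∈ (MulAut.conj : S →* MulAut S).range := by rw [h]; exact Subgroup.mem_top σ
  obtain ⟨g, hg⟩ := h1
  exact ⟨g, hg.symm⟩

end Cfsg.Agent.H633.Dl
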