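import Cfsg.Agent.H633.Dl.Six
import Cfsg.Agent.H633.Dl.Inner
import Cfsg.Agent.CharactersDeep.ModCongr
import Cfsg.Agent.H474.RealCo.CoOne
import Cfsg.Agent.H843.IMC.RowsA
import Cfsg.Agent.H800.ME.CoFacts
import Cfsg.Agent.H729.PairEleven
import Cfsg.Agent.ConwayFacts.AutCo1
import Cfsg.Agent.H680.Dl.Hall
import Cfsg.Agent.H759.Dl.Small

/-!
# S4769: the row of `Co₁` (helper633, task 2517)

`p = 2`: the characters of degree 276, 17250, 80730 and an even degree in one of the three 11-blocks of positive defect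
(`C(x) = 11 × S₃`); `p = 3, 5`: 276, 17250, 80730.
-/

set_option autoImplicit false

namespace Cfsg.Agent.H633.Dl.Co1

open Cfsg MulAction Cfsg.Agent.H246.Dl
open Cfsg.Agent.Characters.Core Cfsg.Agent.SporadicStructure.Co2RankThree
open Cfsg.Agent.SporadicA.Co0Mono Cfsg.Agent.SporadicA.Co1Simple
open Cfsg.Agent.H419.LeechIrr
open Cfsg.Agent.H419.Spor.Co1 (chi chi_one chi_neg psi)
open Cfsg.Agent.CoOneType.CoOneE (pr pr_surjective)
open Cfsg.Agent.H843.IMC Cfsg.Agent.H843.IMC.Co1B Cfsg.Agent.H843.IMC.Co1C Cfsg.Agent.H843.IMC.Co1D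
open Cfsg.Agent.H593.IMFrame (Sub perm frame)
open Cfsg.Agent.Co2Type.Mono Cfsg.Agent.SporadicStructure.M24El Cfsg.Agent.SporadicA.GolayPerm
open Cfsg.Agent.SporadicA.GolayBase
open scoped ComplexConjugate

universe u

/-- Congruence modulo a prime. -/
theorem dvd_sub_degree {G : Type*} [Group G] [Finite G] {s : ℕ} (hs : s.Prime) {x : G} (hx : orderOf x = s)
    (χ : IrrCharacter G) {m : ℤ} (hm : (χ : G → ℂ) x = m) : (s : ℤ) ∣ m - charDegree (χ : G → ℂ) := by
  obtain ⟨M, hM⟩ := Blocks.ExistsModular.exists_isPModular hs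
  have h1 := CharactersDeep.ModCongr.memLocalIdeal_character_sub hM χ.2 x x ⟨1, by rw [mul_one], Commute.one_right x,
    ⟨1, by rw [hx, pow_one]⟩, by rw [orderOf_one, Nat.dvd_one]; exact hs.one_lt.ne'⟩
  rw [inv_mul_cancel, hm, Cfsg.Agent.Blocks.Basic.irr_one_eq_charDegree χ.2] at h1
  have h2 : (m : ℂ) - (charDegree (χ : G → ℂ) : ℂ) = ((m - charDegree (χ : G → ℂ) : ℤ) : ℂ) := by push_cast; ring
  rw [h2, Blocks.Local.memLocalIdeal_intCast_iff hM] at h1
  exact h1

theorem univ_four : ∀ i j a c : Fin 4, i ≠ j → a ≠ i → a ≠ j → c ≠ i → c ≠ j → a ≠ c →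
    (Finset.univ : Finset (Fin 4)) = {i, j, a, c} := by decide

theorem card_co1 : Nat.card Spor.Co1 = 4157776806543360000 := Cfsg.Agent.S0399.result.2

theorem finite_co1 : Finite Spor.Co1 := Nat.finite_of_card_ne_zero (by rw [card_co1]; norm_num)

/-- The constituents of the permutation character of degree 98280. -/
theorem pieces : ∃ α β ξ θ : IrrCharacter Spor.Co1, charDegree (α : Spor.Co1 → ℂ) = 17250 ∧
    charDegree (β : Spor.Co1 → ℂ) = 80730 ∧ charDegree (θ : Spor.Co1 → ℂ) = 276 ∧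
    (∀ g : Co0, om g = 1 + (ξ : Spor.Co1 → ℂ) (pr g)) ∧ (∀ g : Co0, (θ : Spor.Co1 → ℂ) (pr g) = psi g) ∧
    ∀ g : Spor.Co1, (Nat.card (fixedBy X g) : ℂ) =
      1 + (ξ : Spor.Co1 → ℂ) g + (α : Spor.Co1 → ℂ) g + (β : Spor.Co1 → ℂ) g := by
  classical
  have := Fintype.ofFinite Co0
  have := Fintype.ofFinite Spor.Co1
  have := Fintype.ofFinite X
  obtain ⟨b, hb⟩ := exists_sub
  obtain ⟨χ, D, hinj, hperm, hsum, hprod, hsq⟩ := frame hb
  obtain ⟨ξ, hξd, hξ⟩ := exists_299
  obtain ⟨θ, hθ, hθd⟩ := exists_276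
  have htrans := hb.trans
  have hne : Nonempty X := ⟨mk x0⟩
  have hperm' : perm Spor.Co1 X = ∑ i, (χ i : Spor.Co1 → ℂ) := by
    funext g
    rw [hperm, Finset.sum_apply]
  -- a nonzero inner product gives a constituent
  have hcon : ∀ η : Spor.Co1 → ℂ, IsIrrCharacter Spor.Co1 η → classInner η (perm Spor.Co1 X) ≠ 0 →
      ∃ i, (χ i : Spor.Co1 → ℂ) = η := by
    intro η hη h0
    by_contra hcon
    push Not at hcon
    apply h0
    have h1 : classInner (perm Spor.Co1 X) η = 0 := by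
      rw [hperm', classInner_sum_left, Finset.sum_eq_zero]
      intro i _
      exact classInner_irr_ne (χ i).2 hη (hcon i)
    rw [← classInner_conj_symm, h1, map_zero]
  have hone : classInner (1 : Spor.Co1 → ℂ) (perm Spor.Co1 X) = 1 := by
    have h1 := Cfsg.Agent.H713.Spor.RankThree.inner_pc_one (G := Spor.Co1) X
    change classInner (perm Spor.Co1 X) 1 = 1 at h1
    rw [← classInner_conj_symm, h1, map_one]
  obtain ⟨i, hi⟩ := hcon 1 isIrr_one (by rw [hone]; norm_num)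
  -- the inner product of the square with the permutation character
  obtain ⟨n, hn, hsumX⟩ := sum_X
  have hsq2 : classInner (1 + (ξ : Spor.Co1 → ℂ) + (θ : Spor.Co1 → ℂ)) (perm Spor.Co1 X) = n / Nat.card Co0 := by
    rw [← Cfsg.Agent.H693.Defl.classInner_comp_surj pr pr_surjective, classInner_def, div_eq_inv_mul, ← hsumX]
    congr 1
    refine Finset.sum_congr rfl fun g _ => ?_
    have h1 : perm Spor.Co1 X (pr g) = (Nat.card (fixedBy X g) : ℂ) := rfl
    rw [h1, Complex.conj_natCast]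
    congr 1
    show (1 : ℂ) + (ξ : Spor.Co1 → ℂ) (pr g) + (θ : Spor.Co1 → ℂ) (pr g) = chi g * chi g
    rw [← hξ, hθ, om, psi]
    ring
  have hj : ∃ j, (χ j : Spor.Co1 → ℂ) = ξ ∨ (χ j : Spor.Co1 → ℂ) = θ := by
    by_cases h1 : classInner (ξ : Spor.Co1 → ℂ) (perm Spor.Co1 X) = 0
    · by_cases h2 : classInner (θ : Spor.Co1 → ℂ) (perm Spor.Co1 X) = 0
      · exfalso
        rw [classInner_add_left, classInner_add_left, hone, h1, h2, add_zero, add_zero] at hsq2
        have h3 : (Nat.card Co0 : ℂ) ≠ 0 := card_ne_zero_complex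
        rw [eq_div_iff h3, one_mul] at hsq2
        have h4 : Nat.card Co0 = n := by exact_mod_cast hsq2
        have h5 : 0 < Nat.card Co0 := Nat.card_pos
        omega
      · obtain ⟨j, hj⟩ := hcon θ θ.2 h2
        exact ⟨j, Or.inr hj⟩
    · obtain ⟨j, hj⟩ := hcon ξ ξ.2 h1
      exact ⟨j, Or.inl hj⟩
  obtain ⟨j, hj⟩ := hj
  have hcard : Nat.card Spor.Co1 = 4157776806543360000 := card_co1
  have hi1 : charDegree (χ i : Spor.Co1 → ℂ) = 1 := by
    rw [hi]
    unfold charDegree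
    simp
  have hjd : charDegree (χ j : Spor.Co1 → ℂ) = 299 ∨ charDegree (χ j : Spor.Co1 → ℂ) = 276 := by
    rcases hj with hj | hj
    · left; rw [hj, hξd]
    · right; rw [hj, hθd]
  have hij : i ≠ j := by
    rintro rfl
    rw [hi1] at hjd
    omega
  have h := dioph (fun i => charDegree (χ i : Spor.Co1 → ℂ)) D
    (fun i => by rw [← hcard]; exact Cfsg.Agent.Blocks.Knorr.charDegree_dvd (χ i).2) (i := i) (j := j)
    hij hi1 hjd (by rw [hsum, card_X]) (by
      rw [hprod, card_X]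
      decide +kernel) hsq
  obtain ⟨⟨a, ha⟩, ⟨c, hc⟩⟩ := h
  have hai : a ≠ i := by rintro rfl; omega
  have haj : a ≠ j := by rintro rfl; omega
  have hci : c ≠ i := by rintro rfl; omega
  have hcj : c ≠ j := by rintro rfl; omega
  have hac : a ≠ c := by rintro rfl; omega
  have huniv : (Finset.univ : Finset (Fin 4)) = {i, j, a, c} := by
    have h0 := univ_four i j a c hij hai haj hci hcj hac
    convert h0
  have hsum4 : ∀ {A : Type} [AddCommMonoid A] (f : Fin 4 → A), ∑ k, f k = f i + (f j + (f a + f c)) := by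
    intro A _ f
    rw [huniv, Finset.sum_insert (by simp [hij, hai.symm, hci.symm]),
      Finset.sum_insert (by simp [haj.symm, hcj.symm]), Finset.sum_insert (by simp [hac]), Finset.sum_singleton]
  have hjξ : (χ j : Spor.Co1 → ℂ) = ξ := by
    rcases hj with hj | hj
    · exact hj
    · exfalso
      have h1 := hsum
      rw [hsum4, card_X, hi1, ha, hc, hj, hθd] at h1
      omega
  refine ⟨χ a, χ c, ξ, θ, ha, hc, hθd, hξ, hθ, fun g => ?_⟩
  have h1 := hperm g
  rw [hsum4] at h1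
  have h2 : perm Spor.Co1 X g = (Nat.card (fixedBy X g) : ℂ) := rfl
  rw [← h2, h1, hi, hjξ, Pi.one_apply]
  ring

/-! ### The elements -/

open Cfsg.Agent.H729.PairEleven Cfsg.Agent.H729.MData

/-- the dodecad -/
def dod : ℕ := 340831

theorem isCode_dod : isCode dod = true := by decide +kernel

theorem isCode_zero : isCode 0 = true := by decide +kernel

theorem pimg_dod : pimg c11 dod = dod := by decide +kernel

/-- the element of order eleven -/
noncomputable def x0 : Co0 := mo 0 c11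

/-- the involution -/
noncomputable def z0 : Co0 := mo dod idP

theorem x0_eq : x0 = xx := by
  unfold x0 xx mo mu
  rw [cd_zero, signCo0_zero, one_mul]

theorem z0_eq : z0 = signCo0 (cd dod) := by
  unfold z0 mo
  rw [el_idP, map_one, mul_one]

theorem z0_sq : z0 * z0 = 1 := by
  rw [z0_eq, signCo0_mul_self]

theorem xz : x0 * z0 = mo dod c11 := by
  unfold x0 z0
  rw [mo_mul isCode_zero isCode_dod okc ok_idP, pimg_dod, show pcomp c11 idP = c11 by decide +kernel, Nat.zero_xor]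

theorem zx : z0 * x0 = mo dod c11 := by
  unfold x0 z0
  rw [mo_mul isCode_dod isCode_zero ok_idP okc, show pimg idP 0 = 0 by decide +kernel,
    show pcomp idP c11 = c11 by decide +kernel, Nat.xor_zero]

theorem xx_sq : x0 * x0 = mo 0 (pcomp c11 c11) := by
  unfold x0
  rw [mo_mul isCode_zero isCode_zero okc okc, show pimg c11 0 = 0 by decide +kernel, Nat.zero_xor]

theorem chi_mo {m P : ℕ} (hm : isCode m = true) (hP : ok P = true) : chi (mo m P) = (trN m P : ℂ) := by
  show ((tr8 (mo m P) : ℤ) : ℂ) / 8 = _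
  rw [tr8_mo hm hP]
  push_cast
  ring

theorem chi_x : chi x0 = 2 := by
  unfold x0
  rw [chi_mo isCode_zero okc, show trN 0 c11 = 2 by decide +kernel]
  norm_num

theorem chi_xx : chi (x0 * x0) = 2 := by
  rw [xx_sq, chi_mo isCode_zero (ok_pcomp okc okc), show trN 0 (pcomp c11 c11) = 2 by decide +kernel]
  norm_num

theorem chi_xz : chi (x0 * z0) = 0 := by
  rw [xz, chi_mo isCode_dod okc, show trN dod c11 = 0 by decide +kernel]
  norm_num

theorem sq_xz : x0 * z0 * (x0 * z0) = x0 * x0 := by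
  have h : x0 * z0 = z0 * x0 := by rw [xz, zx]
  calc x0 * z0 * (x0 * z0) = x0 * (z0 * x0) * z0 := by group
    _ = x0 * (x0 * z0) * z0 := by rw [← h]
    _ = x0 * x0 * (z0 * z0) := by group
    _ = x0 * x0 := by rw [z0_sq, mul_one]

/-- **`x z` fixes no pair of minimal vectors.** -/
theorem no_fix (y : X) : (x0 * z0) • y ≠ y := by
  intro hy
  obtain ⟨v, rfl⟩ := exists_mk y
  rw [smul_mk, mk_eq] at hy
  have hcomm : x0 * z0 = z0 * x0 := by rw [xz, zx]
  -- the vector
  obtain ⟨w, hw⟩ : ∃ w : leechLattice, w = v.1 := ⟨_, rfl⟩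
  have hg : (x0 * z0) • w = w ∨ (x0 * z0) • w = -w := by
    rcases hy with h | h
    · left
      rw [hw]
      exact (congrArg Subtype.val h).symm
    · right
      have h1 := congrArg Subtype.val h
      have h2 : v.1 = -((x0 * z0) • v.1) := h1
      rw [hw]
      rw [eq_neg_iff_add_eq_zero, add_comm, ← eq_neg_iff_add_eq_zero] at h2
      exact h2
  have hg2 : (x0 * z0 * (x0 * z0)) • w = w := by
    rw [mul_smul]
    rcases hg with h | h
    · rw [h, h]
    · rw [h, Cfsg.Agent.SporadicStructure.Co0Base.co0_smul_neg, h, neg_neg]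
  have hx2 : (x0 * x0) • w = w := by rw [← sq_xz]; exact hg2
  have hx11 : x0 ^ 11 = 1 := by rw [x0_eq]; exact xx_pow
  have hxw : x0 • w = w := by
    have h1 : ∀ n : ℕ, ((x0 * x0) ^ n) • w = w := by
      intro n
      induction n with
      | zero => rw [pow_zero, one_smul]
      | succ n ih => rw [pow_succ, mul_smul, hx2, ih]
    have h2 : x0 = (x0 * x0) ^ 6 := by
      calc x0 = x0 ^ 11 * x0 := by rw [hx11, one_mul]
        _ = (x0 * x0) ^ 6 := by rw [← pow_succ, ← sq, ← pow_mul]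
    have h3 := h1 6
    rw [← h2] at h3
    exact h3
  have hzw : z0 • w = w ∨ z0 • w = -w := by
    rw [hcomm, mul_smul, hxw] at hg
    exact hg
  obtain ⟨h1, h2⟩ := vals (const_of_fix (v := w) (by rw [← x0_eq]; exact hxw))
  set a : ℕ → ℤ := fun n => (w : GolayPt → ℤ) (pt n) with ha
  have hsum : sqNorm (w : GolayPt → ℤ) = a 0 ^ 2 + a 23 ^ 2 + 11 * (a 1) ^ 2 + 11 * (a 5) ^ 2 := by
    unfold sqNorm
    rw [sum_pt]
    simp only [Finset.sum_range_succ, Finset.sum_range_zero]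
    have e1 := h1
    have e2 := h2
    simp only [List.mem_cons, List.not_mem_nil, or_false, forall_eq_or_imp, forall_eq] at e1 e2
    obtain ⟨-, e2', e3, e4, e6, e8', e9, e12, e13, e16, e18⟩ := e1
    obtain ⟨-, f7, f10, f11, f14, f15, f17, f19, f20, f21, f22⟩ := e2
    rw [e2', e3, e4, e6, e8', e9, e12, e13, e16, e18, f7, f10, f11, f14, f15, f17, f19, f20, f21, f22]
    ring
  have hn : sqNorm (w : GolayPt → ℤ) = 32 := by
    rw [hw, norm_eq]
    exact v.2
  rw [hsum] at hn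
  -- the signs
  have hs : ∀ n < 24, ((z0 • w : leechLattice) : GolayPt → ℤ) (pt n) = if dod.testBit n then -a n else a n := by
    intro n hn
    rw [z0_eq, signCo0_smul, signMap_apply, coe_cd isCode_dod]
    unfold word
    rw [idx_pt hn]
    by_cases h : dod.testBit n = true
    · rw [if_pos h, if_pos h]
      show sgn 1 * _ = _
      rw [show (sgn 1 : ℤ) = -1 from by decide]
      show -1 * a n = -a n
      ring
    · rw [if_neg h, if_neg h]
      show sgn 0 * _ = _
      rw [show (sgn 0 : ℤ) = 1 from by decide]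
      show 1 * a n = a n
      ring
  have b0 := hs 0 (by norm_num)
  have b1 := hs 1 (by norm_num)
  have b5 := hs 5 (by norm_num)
  have b23 := hs 23 (by norm_num)
  rw [if_pos (by decide +kernel)] at b0 b1
  rw [if_neg (by decide +kernel)] at b5 b23
  have key : ∀ p q : ℤ, p ^ 2 + 11 * q ^ 2 = 32 → False := by
    intro p q h
    have c1 : q ≤ 1 ∧ -1 ≤ q := ⟨by nlinarith [sq_nonneg p], by nlinarith [sq_nonneg p]⟩
    have c2 : p ≤ 5 ∧ -5 ≤ p := ⟨by nlinarith [sq_nonneg q], by nlinarith [sq_nonneg q]⟩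
    obtain ⟨c11, c12⟩ := c1
    obtain ⟨c21, c22⟩ := c2
    interval_cases q <;> interval_cases p <;> omega
  rcases hzw with h | h
  · rw [h] at b0 b1
    change a 0 = -a 0 at b0
    change a 1 = -a 1 at b1
    have d0 : a 0 = 0 := by linarith
    have d1 : a 1 = 0 := by linarith
    rw [d0, d1] at hn
    exact key (a 23) (a 5) (by linarith)
  · rw [h] at b5 b23
    change -a 5 = a 5 at b5
    change -a 23 = a 23 at b23
    have d5 : a 5 = 0 := by linarith
    have d23 : a 23 = 0 := by linarith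
    rw [d5, d23] at hn
    exact key (a 0) (a 1) (by linarith)

/-! ### The four characters -/

theorem psi_x : psi x0 = 1 := by
  rw [psi, chi_x, chi_xx]; norm_num

theorem psi_xz : psi (x0 * z0) = -1 := by
  rw [psi, sq_xz, chi_xz, chi_xx]; norm_num

theorem om_xz : om (x0 * z0) = 1 := by
  rw [om, sq_xz, chi_xz, chi_xx]; norm_num

theorem inner_co1 (σ : MulAut Spor.Co1) : ∃ g : Spor.Co1, σ = MulAut.conj g := by
  obtain ⟨s, hs⟩ := ConwayFacts.AutCo1.inner σ
  exact ⟨s, MulEquiv.ext fun g => hs g⟩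

theorem many_two : Many 2 Spor.Co1 4 := by
  classical
  have hfin := finite_co1
  have h11 : Fact (Nat.Prime 11) := ⟨by norm_num⟩
  obtain ⟨α, β, ξ, θ, hα, hβ, hθd, hξ, hθ, hfix⟩ := pieces
  have hdegθ : (θ : Spor.Co1 → ℂ) 1 = 276 := by
    rw [Cfsg.Agent.Blocks.Basic.irr_one_eq_charDegree θ.2, hθd]; norm_num
  have hθx : (θ : Spor.Co1 → ℂ) (pr x0) = 1 := by rw [hθ, psi_x]
  have hθxz : (θ : Spor.Co1 → ℂ) (pr x0 * pr z0) = -1 := by rw [← map_mul, hθ, psi_xz]
  have hxo : orderOf (pr x0) = 11 := by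
    refine orderOf_eq_prime ?_ fun h => ?_
    · rw [← map_pow, x0_eq, xx_pow, map_one]
    · rw [h, hdegθ] at hθx
      norm_num at hθx
  have hzo : orderOf (pr z0) = 2 := by
    have : Fact (Nat.Prime 2) := ⟨Nat.prime_two⟩
    refine orderOf_eq_prime ?_ fun h => ?_
    · rw [← map_pow, pow_two, z0_sq, map_one]
    · rw [h, mul_one, hθx] at hθxz
      norm_num at hθxz
  have hzx : Commute (pr z0) (pr x0) := by
    show pr z0 * pr x0 = pr x0 * pr z0
    rw [← map_mul, ← map_mul, xz, zx]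
  obtain ⟨g, hg⟩ := H800.ME.CoFacts.conj_s hxo
  have hconj : IsConj H800.ME.CoFacts.s (pr x0) := isConj_iff.2 ⟨g, hg⟩
  have hcard : Nat.card (Subgroup.centralizer ({pr x0} : Set Spor.Co1)) = 6 * 11 := by
    rw [← H474.RealCo.card_cent_of_isConj hconj]
    exact H800.ME.CoFacts.card_cent
  have hreal : IsConj (pr x0) (pr x0)⁻¹ := by
    have h1 : IsConj H800.ME.CoFacts.s H800.ME.CoFacts.s⁻¹ := isConj_iff.2 ⟨_, H800.ME.CoFacts.ts⟩
    have h2 : IsConj H800.ME.CoFacts.s⁻¹ (pr x0)⁻¹ := isConj_iff.2 ⟨g, by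
      rw [← hg]; group⟩
    exact (hconj.symm.trans h1).trans h2
  have hnc : ∃ a b : Spor.Co1, Commute a (pr x0) ∧ Commute b (pr x0) ∧ a * b ≠ b * a := by
    refine ⟨g * H800.ME.CoFacts.a * g⁻¹, g * H800.ME.CoFacts.w * g⁻¹, ?_, ?_, fun hab => ?_⟩
    · show g * H800.ME.CoFacts.a * g⁻¹ * pr x0 = pr x0 * (g * H800.ME.CoFacts.a * g⁻¹)
      rw [← hg]
      calc g * H800.ME.CoFacts.a * g⁻¹ * (g * H800.ME.CoFacts.s * g⁻¹)
          = g * (H800.ME.CoFacts.a * H800.ME.CoFacts.s) * g⁻¹ := by group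
        _ = g * (H800.ME.CoFacts.s * H800.ME.CoFacts.a) * g⁻¹ := by rw [H800.ME.CoFacts.as]
        _ = _ := by group
    · show g * H800.ME.CoFacts.w * g⁻¹ * pr x0 = pr x0 * (g * H800.ME.CoFacts.w * g⁻¹)
      rw [← hg]
      calc g * H800.ME.CoFacts.w * g⁻¹ * (g * H800.ME.CoFacts.s * g⁻¹)
          = g * (H800.ME.CoFacts.w * H800.ME.CoFacts.s) * g⁻¹ := by group
        _ = g * (H800.ME.CoFacts.s * H800.ME.CoFacts.w) * g⁻¹ := by rw [H800.ME.CoFacts.ws]
        _ = _ := by group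
    · have h1 : H800.ME.CoFacts.a * H800.ME.CoFacts.w = H800.ME.CoFacts.w * H800.ME.CoFacts.a := by
        have h2 : g * (H800.ME.CoFacts.a * H800.ME.CoFacts.w) * g⁻¹ = g * (H800.ME.CoFacts.w * H800.ME.CoFacts.a) * g⁻¹ := by
          calc g * (H800.ME.CoFacts.a * H800.ME.CoFacts.w) * g⁻¹
              = g * H800.ME.CoFacts.a * g⁻¹ * (g * H800.ME.CoFacts.w * g⁻¹) := by group
            _ = g * H800.ME.CoFacts.w * g⁻¹ * (g * H800.ME.CoFacts.a * g⁻¹) := hab
            _ = _ := by group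
        exact mul_left_cancel (mul_right_cancel h2)
      rw [H800.ME.CoFacts.wa1] at h1
      have h3 := mul_left_cancel h1
      apply H800.ME.CoFacts.a_ne
      have h4 : 1 * H800.ME.CoFacts.w = H800.ME.CoFacts.a * H800.ME.CoFacts.w := by rw [one_mul]; exact h3
      exact (mul_right_cancel h4).symm
  obtain ⟨χ, hinj, heven, hχ0, hχ2⟩ := three_even_six (p := 11) (by norm_num) H800.ME.CoFacts.not_sq hxo hreal hcard hnc
  have hχ0' := hχ0 (pr z0) hzx (by rw [hzo]; norm_num)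
  have hχ2' := hχ2 (pr z0) hzx hzo
  -- the fixed points
  have hfix0 : Nat.card (fixedBy X (pr x0 * pr z0)) = 0 := by
    rw [← map_mul]
    have : IsEmpty (fixedBy X (pr (x0 * z0))) := ⟨fun y => no_fix y.1 (by
      have h1 := y.2
      rw [mem_fixedBy, pr_smul] at h1
      exact h1)⟩
    exact Nat.card_of_isEmpty
  have hsum : (α : Spor.Co1 → ℂ) (pr x0 * pr z0) + (β : Spor.Co1 → ℂ) (pr x0 * pr z0) = -1 := by
    have h1 := hfix (pr x0 * pr z0)
    have h2 := hξ (x0 * z0)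
    rw [om_xz, map_mul] at h2
    rw [hfix0, Nat.cast_zero] at h1
    linear_combination -h1 + h2
  obtain ⟨ψ, hψ, hψne⟩ : ∃ ψ : IrrCharacter Spor.Co1, 2 ∣ charDegree (ψ : Spor.Co1 → ℂ) ∧ ∀ i, χ i ≠ ψ := by
    by_contra hcon
    push Not at hcon
    obtain ⟨i, hi⟩ := hcon θ (by rw [hθd]; norm_num)
    obtain ⟨j, hj⟩ := hcon α (by rw [hα]; norm_num)
    obtain ⟨k, hk⟩ := hcon β (by rw [hβ]; norm_num)
    have hi0 : i ≠ 0 := by
      rintro rfl
      rw [hi, hθx, hθxz] at hχ0'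
      norm_num at hχ0'
    have hi2 : i ≠ 2 := by
      rintro rfl
      rw [hi, hθxz] at hχ2'
      norm_num at hχ2'
    have hij : i ≠ j := by
      rintro rfl
      rw [hi] at hj
      rw [hj, hα] at hθd
      omega
    have hik : i ≠ k := by
      rintro rfl
      rw [hi] at hk
      rw [hk, hβ] at hθd
      omega
    have hjk : j ≠ k := by
      rintro rfl
      rw [hj] at hk
      rw [hk, hβ] at hα
      omega
    have hcases : (j = 0 ∧ k = 2) ∨ (j = 2 ∧ k = 0) := by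
      revert hi0 hi2 hij hik hjk
      clear hi hj hk
      revert i j k
      decide
    rcases hcases with ⟨rfl, rfl⟩ | ⟨rfl, rfl⟩
    · rw [hj] at hχ0'
      rw [hk] at hχ2'
      rw [hχ2', add_zero, hχ0'] at hsum
      have h1 := dvd_sub_degree (s := 11) (by norm_num) hxo α (m := -1) (by rw [hsum]; norm_num)
      rw [hα] at h1
      norm_num at h1
    · rw [hk] at hχ0'
      rw [hj] at hχ2'
      rw [hχ2', zero_add, hχ0'] at hsum
      have h1 := dvd_sub_degree (s := 11) (by norm_num) hxo β (m := -1) (by rw [hsum]; norm_num)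
      rw [hβ] at h1
      norm_num at h1
  refine many_of_inner inner_co1 (Fin.snoc χ ψ : Fin 4 → IrrCharacter Spor.Co1) ?_ ?_
  · exact Fin.snoc_injective_iff.2 ⟨hinj, fun ⟨i, hi⟩ => hψne i hi⟩
  · intro i
    refine Fin.lastCases ?_ (fun i' => ?_) i
    · rw [Fin.snoc_last]; exact hψ
    · rw [Fin.snoc_castSucc]; exact heven i'

theorem hasDegs : ∃ α β θ : IrrCharacter Spor.Co1, charDegree (α : Spor.Co1 → ℂ) = 17250 ∧
    charDegree (β : Spor.Co1 → ℂ) = 80730 ∧ charDegree (θ : Spor.Co1 → ℂ) = 276 := by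
  obtain ⟨α, β, ξ, θ, hα, hβ, hθd, -⟩ := pieces
  exact ⟨α, β, θ, hα, hβ, hθd⟩

theorem many_three : Many 3 Spor.Co1 3 := by
  obtain ⟨α, β, θ, hα, hβ, hθ⟩ := hasDegs
  refine Many.of_degrees ![α, β, θ] (fun i => ?_) (fun i j hij => ?_)
  · fin_cases i
    · show 3 ∣ charDegree (α : Spor.Co1 → ℂ)
      rw [hα]; norm_num
    · show 3 ∣ charDegree (β : Spor.Co1 → ℂ)
      rw [hβ]; norm_num
    · show 3 ∣ charDegree (θ : Spor.Co1 → ℂ)
      rw [hθ]; norm_num
  · have h0 : charDegree (![α, β, θ] 0 : Spor.Co1 → ℂ) = 17250 := hα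
    have h1 : charDegree (![α, β, θ] 1 : Spor.Co1 → ℂ) = 80730 := hβ
    have h2 : charDegree (![α, β, θ] 2 : Spor.Co1 → ℂ) = 276 := hθ
    dsimp only at hij
    fin_cases i <;> fin_cases j <;> first | rfl | (exfalso; simp only [Fin.mk_zero, Fin.mk_one, Fin.reduceFinMk, h0, h1, h2] at hij; omega)

theorem many_five : Many 5 Spor.Co1 2 := by
  obtain ⟨α, β, θ, hα, hβ, hθ⟩ := hasDegs
  refine Many.of_degrees ![α, β] (fun i => ?_) (fun i j hij => ?_)
  · fin_cases i
    · show 5 ∣ charDegree (α : Spor.Co1 → ℂ)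
      rw [hα]; norm_num
    · show 5 ∣ charDegree (β : Spor.Co1 → ℂ)
      rw [hβ]; norm_num
  · have h0 : charDegree (![α, β] 0 : Spor.Co1 → ℂ) = 17250 := hα
    have h1 : charDegree (![α, β] 1 : Spor.Co1 → ℂ) = 80730 := hβ
    dsimp only at hij
    fin_cases i <;> fin_cases j <;> first | rfl | (exfalso; simp only [Fin.mk_zero, Fin.mk_one, h0, h1] at hij; omega)

/-- **S4769 for `Co₁`.** -/
theorem row_co1 : H759.Dl.RowF.{u} (fun S => Spor.IsoCo1 S) := by
  intro S _ _ _ h p hp hd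
  have : Fact p.Prime := ⟨hp⟩
  obtain ⟨e⟩ := h
  have hcard : Nat.card S = 4157776806543360000 := by rw [Nat.card_congr e.toEquiv, card_co1]
  have him : H33.IM p S := H843.IMC.Rows.im_co1 ⟨e⟩ hd
  have hone : ∀ a : ℕ, a ≤ 2 → ¬ p ^ (a + 1) ∣ Nat.card S → Row p S := fun a ha h2 =>
    Row.of_im (H680.Dl.dlLe_one ha h2) him
  rw [hcard] at hd
  have h1 : (4157776806543360000 : ℕ) = 2 ^ 21 * (3 ^ 9 * (5 ^ 4 * (7 ^ 2 * (11 * (13 * 23))))) := by norm_num
  rw [h1] at hd
  rcases hp.dvd_mul.1 hd with h2 | h2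
  · obtain rfl := (Nat.prime_dvd_prime_iff_eq hp Nat.prime_two).1 (hp.dvd_of_dvd_pow h2)
    exact ⟨4, (H680.Dl.dlLe_of_card' (a := 21) (by rw [hcard]; norm_num)).2.1 le_rfl, many_two.of_equiv e⟩
  rcases hp.dvd_mul.1 h2 with h3 | h3
  · obtain rfl := (Nat.prime_dvd_prime_iff_eq hp Nat.prime_three).1 (hp.dvd_of_dvd_pow h3)
    exact ⟨3, H680.Dl.dlLe_three (a := 9) (by norm_num) (by rw [hcard]; norm_num), many_three.of_equiv e⟩
  rcases hp.dvd_mul.1 h3 with h4 | h4
  · obtain rfl := (Nat.prime_dvd_prime_iff_eq hp Nat.prime_five).1 (hp.dvd_of_dvd_pow h4)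
    exact ⟨2, H680.Dl.dlLe_two (a := 4) (by norm_num) (by rw [hcard]; norm_num), many_five.of_equiv e⟩
  rcases hp.dvd_mul.1 h4 with h5 | h5
  · obtain rfl := (Nat.prime_dvd_prime_iff_eq hp (by norm_num)).1 (hp.dvd_of_dvd_pow h5)
    exact hone 2 le_rfl (by rw [hcard]; norm_num)
  rcases hp.dvd_mul.1 h5 with h6 | h6
  · obtain rfl := (Nat.prime_dvd_prime_iff_eq hp (by norm_num)).1 h6
    exact hone 1 (by norm_num) (by rw [hcard]; norm_num)
  rcases hp.dvd_mul.1 h6 with h7 | h7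
  · obtain rfl := (Nat.prime_dvd_prime_iff_eq hp (by norm_num)).1 h7
    exact hone 1 (by norm_num) (by rw [hcard]; norm_num)
  · obtain rfl := (Nat.prime_dvd_prime_iff_eq hp (by norm_num)).1 h7
    exact hone 1 (by norm_num) (by rw [hcard]; norm_num)

end Cfsg.Agent.H633.Dl.Co1
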