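import Cfsg.Agent.H633.Dl.Wrap
import Cfsg.Agent.H633.Dl.Inner
import Cfsg.Agent.H633.Dl.Co2Seven
import Cfsg.Agent.H729.CharTwoBlock
import Cfsg.Agent.SevenCases.SporCo2
import Cfsg.Agent.H663.ObCo2
import Cfsg.Agent.H713.Engine
import Cfsg.Agent.H714.DG.CoTwoX
import Cfsg.Agent.H843.IMC.Co2C
import Cfsg.Agent.H843.IMC.RowsA
import Cfsg.Agent.H419.Row
import Cfsg.Agent.S2070
import Cfsg.Agent.H680.Dl.Hall
import Cfsg.Agent.H759.Dl.Small

/-!
# S4769: the row of `Co₂` (helper633, task 2517)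

`p = 2`: three even degrees in the 7-blocks of positive defect (`|C(x)| = 56`) and a character of 2-defect zero (`Co₂` has
characteristic 2 type and more than one 2-block); `p = 3`: an element of order 3 with a character of degree 81 of its
centralizer; `p = 5`: 275, 44275.
-/

set_option autoImplicit false

namespace Cfsg.Agent.H633.Dl.Co2

open Subgroup Cfsg Cfsg.Agent.H246.Dl

universe u

theorem finite : Finite Spor.Co2 := Co2Seven.finite

theorem inner_of_equiv {A B : Type*} [Group A] [Group B] (e : A ≃* B)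
    (h : ∀ σ : MulAut A, ∃ g : A, σ = MulAut.conj g) : ∀ σ : MulAut B, ∃ g : B, σ = MulAut.conj g := by
  intro σ
  obtain ⟨g, hg⟩ := h ((e.trans σ).trans e.symm)
  refine ⟨e g, MulEquiv.ext fun b => ?_⟩
  have h1 := DFunLike.congr_fun hg (e.symm b)
  change e.symm (σ (e (e.symm b))) = g * e.symm b * g⁻¹ at h1
  rw [e.apply_symm_apply] at h1
  have h2 := congrArg e h1
  rw [e.apply_symm_apply, map_mul, map_mul, map_inv, e.apply_symm_apply] at h2
  exact h2

theorem inner_co2 : ∀ σ : MulAut Spor.Co2, ∃ g : Spor.Co2, σ = MulAut.conj g :=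
  H419.Row.inner_of_out Cfsg.Agent.S2070.result

/-- **A character of 2-defect zero.** -/
theorem exists_defect_zero : ∃ η : IrrCharacter Spor.Co2,
    (charDegree (η : Spor.Co2 → ℂ)).factorization 2 = (Nat.card Spor.Co2).factorization 2 := by
  have hfin := finite
  obtain ⟨M, hM⟩ := Blocks.ExistsModular.exists_isPModular Nat.prime_two
  by_contra hcon
  push Not at hcon
  obtain ⟨χ, hχ⟩ := H663.ObCo2.nb M hM
  apply hχ
  have hone : IsIrrCharacter Spor.Co2 (fun _ : Spor.Co2 => (1 : ℂ)) := Characters.Core.isIrr_one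
  refine H729.CharTwoBlock.sameBlock_of_charTwoType hM SevenCases.SporCo2.charTwo_Co2 (fun χ hχ => hcon χ ?_) ⟨_, hone⟩ χ
  have h1 : charDegree (χ : Spor.Co2 → ℂ) ∣ Nat.card Spor.Co2 := Blocks.Knorr.charDegree_dvd χ.2
  have h2 : charDegree (χ : Spor.Co2 → ℂ) ≠ 0 := (Blocks.Basic.charDegree_pos χ.2).ne'
  exact le_antisymm ((Nat.factorization_le_iff_dvd h2 Nat.card_pos.ne').2 h1 2)
    ((Nat.prime_two.pow_dvd_iff_le_factorization h2).1 hχ)

theorem many_two : Many 2 Spor.Co2 4 := by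
  have hfin := finite
  have h2 : Fact (Nat.Prime 2) := ⟨Nat.prime_two⟩
  have h7 : Fact (Nat.Prime 7) := ⟨by norm_num⟩
  have hcard : Nat.card Spor.Co2 = 42305421312000 := Cfsg.Agent.Co2Type.CardCo2.card_co2
  obtain ⟨x, hx, hreal, hC, hnc⟩ := Co2Seven.main
  obtain ⟨χ, hinj, heven, hne⟩ := three_even_of_cent (p := 7) (by norm_num) (by rw [hcard]; norm_num) hx hreal
    (Or.inr rfl) hC hnc
  obtain ⟨η, hη⟩ := exists_defect_zero
  have hηne : ∀ i, χ i ≠ η := by
    intro i h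
    obtain ⟨z, hz1, hxz, hz8, h0⟩ := hne i
    apply h0
    rw [h]
    refine H713.irr_zero_of_singular hη ?_
    have hz2 : 2 ∣ orderOf z := by
      have h3 : orderOf z ∣ 2 ^ 3 := hz8
      obtain ⟨k, -, hk⟩ := (Nat.dvd_prime_pow Nat.prime_two).1 h3
      rw [hk]
      have hk0 : k ≠ 0 := by
        rintro rfl
        rw [pow_zero] at hk
        exact hz1 (orderOf_eq_one_iff.1 hk)
      exact dvd_pow_self 2 hk0
    have hco : (orderOf x).Coprime (orderOf z) := by
      rw [hx]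
      exact Nat.Coprime.coprime_dvd_right hz8 (by norm_num)
    rw [hxz.orderOf_mul_eq_mul_orderOf_of_coprime hco]
    exact hz2.mul_left _
  have hη2 : 2 ∣ charDegree (η : Spor.Co2 → ℂ) := by
    refine Nat.dvd_of_factorization_pos ?_
    rw [hη]
    exact (Nat.prime_two.factorization_pos_of_dvd Nat.card_pos.ne' (by rw [hcard]; norm_num)).ne'
  refine many_of_inner inner_co2 (Fin.snoc χ η : Fin 4 → IrrCharacter Spor.Co2) ?_ ?_
  · exact Fin.snoc_injective_iff.2 ⟨hinj, fun ⟨i, hi⟩ => hηne i hi⟩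
  · intro i
    refine Fin.lastCases ?_ (fun i' => ?_) i
    · rw [Fin.snoc_last]; exact hη2
    · rw [Fin.snoc_castSucc]; exact heven i'

open Cfsg.Agent.H843.IMC.Co2W Cfsg.Agent.H843.IMC.Co2C in
theorem many_three : Many 3 Spor.Co2 3 := by
  have h3 : Fact (Nat.Prime 3) := ⟨Nat.prime_three⟩
  obtain ⟨f⟩ := nonempty_equiv
  have hfin : Finite Gw := Nat.finite_of_card_ne_zero (by rw [card_Gw]; norm_num)
  refine Many.of_equiv f (many_of_ND (inner_of_equiv f inner_co2)
    (H651.Two.three_le_of_elt orderOf_x (by norm_num) (by rw [card_Gw]; norm_num) ?_))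
  rw [← KK_eq]
  obtain ⟨-, θ, hθ, -⟩ := exists_theta
  refine ⟨θ, ?_⟩
  have h2 : (charDegree (θ : ↥KK → ℂ)).factorization 3 = 4 := by
    rw [hθ, show (81 : ℕ) = 3 ^ 4 by norm_num, Nat.prime_three.factorization_pow]
    simp
  rw [h2]
  exact card_KK

theorem many_five : Many 5 Spor.Co2 2 := by
  obtain ⟨χ, hχ⟩ := H714.DG.CoTwoX.exists_44275
  obtain ⟨ψ, hψ⟩ := H843.IMC.Co2A.hasDeg_2024_275.2
  refine Many.of_degrees ![χ, ψ] (fun i => ?_) (fun i j hij => ?_)
  · fin_cases i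
    · show 5 ∣ charDegree (χ : Spor.Co2 → ℂ)
      rw [hχ]; norm_num
    · show 5 ∣ charDegree (ψ : Spor.Co2 → ℂ)
      rw [hψ]; norm_num
  · fin_cases i <;> fin_cases j
    · rfl
    · exfalso
      change charDegree (χ : Spor.Co2 → ℂ) = charDegree (ψ : Spor.Co2 → ℂ) at hij
      rw [hχ, hψ] at hij
      omega
    · exfalso
      change charDegree (ψ : Spor.Co2 → ℂ) = charDegree (χ : Spor.Co2 → ℂ) at hij
      rw [hχ, hψ] at hij
      omega
    · rfl

/-- **S4769 for `Co₂`.** -/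
theorem row_co2 : H759.Dl.RowF.{u} (fun S => Spor.IsoCo2 S) := by
  intro S _ _ _ h p hp hd
  have : Fact p.Prime := ⟨hp⟩
  have him : H33.IM p S := H843.IMC.Rows.im_co2 h hd
  obtain ⟨e⟩ := h
  have hcard : Nat.card S = 42305421312000 := by
    rw [Nat.card_congr e.toEquiv]; exact Cfsg.Agent.Co2Type.CardCo2.card_co2
  have hone : ∀ a : ℕ, a ≤ 2 → ¬ p ^ (a + 1) ∣ Nat.card S → Row p S := fun a ha h2 =>
    Row.of_im (H680.Dl.dlLe_one ha h2) him
  rw [hcard] at hd
  have h1 : (42305421312000 : ℕ) = 2 ^ 18 * (3 ^ 6 * (5 ^ 3 * (7 * (11 * 23)))) := by norm_num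
  rw [h1] at hd
  rcases hp.dvd_mul.1 hd with h2 | h2
  · obtain rfl := (Nat.prime_dvd_prime_iff_eq hp Nat.prime_two).1 (hp.dvd_of_dvd_pow h2)
    exact ⟨4, H680.Dl.dlLe_four (a := 18) (by norm_num) (by rw [hcard]; norm_num), many_two.of_equiv e⟩
  rcases hp.dvd_mul.1 h2 with h3 | h3
  · obtain rfl := (Nat.prime_dvd_prime_iff_eq hp Nat.prime_three).1 (hp.dvd_of_dvd_pow h3)
    exact ⟨3, H680.Dl.dlLe_three (a := 6) (by norm_num) (by rw [hcard]; norm_num), many_three.of_equiv e⟩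
  rcases hp.dvd_mul.1 h3 with h4 | h4
  · obtain rfl := (Nat.prime_dvd_prime_iff_eq hp Nat.prime_five).1 (hp.dvd_of_dvd_pow h4)
    exact ⟨2, H680.Dl.dlLe_two (a := 3) (by norm_num) (by rw [hcard]; norm_num), many_five.of_equiv e⟩
  rcases hp.dvd_mul.1 h4 with h5 | h5
  · obtain rfl := (Nat.prime_dvd_prime_iff_eq hp (by norm_num)).1 h5
    exact hone 1 (by norm_num) (by rw [hcard]; norm_num)
  rcases hp.dvd_mul.1 h5 with h6 | h6
  · obtain rfl := (Nat.prime_dvd_prime_iff_eq hp (by norm_num)).1 h6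
    exact hone 1 (by norm_num) (by rw [hcard]; norm_num)
  · obtain rfl := (Nat.prime_dvd_prime_iff_eq hp (by norm_num)).1 h6
    exact hone 1 (by norm_num) (by rw [hcard]; norm_num)

end Cfsg.Agent.H633.Dl.Co2
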