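import Cfsg.Agent.H633.Dl.Wrap
import Cfsg.Agent.H633.Dl.Inner
import Cfsg.Agent.H633.Dl.SpSeven3
import Cfsg.Agent.H555.TwoSp.CoThreeSeven
import Cfsg.Agent.H769.PB.CoThreeTwo
import Cfsg.Agent.H843.IMC.RowsB
import Cfsg.Agent.H680.Dl.Hall
import Cfsg.Agent.H759.Dl.Small

/-!
# S4769: the row of `Co₃` (helper633, task 2517)

`p = 2`: three 7-blocks, `C(x) = 7 × S₃` for an element `x` of order seven; `p = 3`: an element of order three whose
centralizer has a character of degree 27.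
-/

set_option autoImplicit false

namespace Cfsg.Agent.H633.Dl.Co3

open Subgroup Cfsg Cfsg.Agent.H246.Dl Cfsg.Agent.H771.KSp6 Cfsg.Agent.SporRec.TwoSp6.Sp
open Cfsg.Agent.H593.D1Local

universe u

/-- Elements of a double cover of `Sp₆(2)`. -/
theorem exists_data {C : Type*} [Group C] {z : C} {π : C →* S} (E : SporRec.TwoSp6.Lift.Ext z π) :
    ∃ y g h : C, orderOf y = 7 ∧ g * y * g⁻¹ = y⁻¹ ∧ h * y * h⁻¹ = y * y ∧
      ∀ w : C, w * w * w = 1 → y * w = w * y → w = 1 := by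
  have : Fact (Nat.Prime 7) := ⟨by norm_num⟩
  obtain ⟨x, hx⟩ := E.surj (ev [0, 3, 5, 2, 4, 6])
  obtain ⟨g, hg⟩ := E.surj (ev [0, 3, 5])
  obtain ⟨k, hk⟩ := E.surj (ev SpSeven3.w3)
  have hz2 : z ^ 2 = 1 := by rw [sq, E.z_sq]
  have hx7 : (x ^ 7) ^ 2 = 1 := by
    rcases E.ker (x ^ 7) (by rw [map_pow, hx, H769.PB.CoThreeTwo.c_pow]) with h | h
    · rw [h, one_pow]
    · rw [h, hz2]
  have hy7 : (x ^ 8) ^ 7 = 1 := by
    rw [← pow_mul, show 8 * 7 = 7 * (2 * 4) by norm_num, pow_mul, pow_mul, hx7, one_pow]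
  have hπy : π (x ^ 8) = ev [0, 3, 5, 2, 4, 6] := by
    rw [map_pow, hx, pow_succ, H769.PB.CoThreeTwo.c_pow, one_mul]
  have hyo : orderOf (x ^ 8) = 7 := by
    refine orderOf_eq_prime hy7 ?_
    intro h
    rw [h, map_one] at hπy
    exact H769.PB.CoThreeTwo.c_ne hπy.symm
  have h3 : z ^ 7 = z := by
    rw [show 7 = 2 * 3 + 1 by norm_num, pow_succ, pow_mul, hz2, one_pow, one_mul]
  -- a conjugate of `y` equal to `z u`, `u⁷ = 1`, is impossible
  have hno : ∀ a u : C, u ^ 7 = 1 → a * x ^ 8 * a⁻¹ * u⁻¹ ≠ z := by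
    intro a u hu h
    have h1 : a * x ^ 8 * a⁻¹ = z * u := by rw [← h, inv_mul_cancel_right]
    have h2 : (a * x ^ 8 * a⁻¹) ^ 7 = 1 := by
      rw [conj_pow, hy7, mul_one, mul_inv_cancel]
    have hcz : Commute z u := E.z_comm _
    rw [h1, hcz.mul_pow, hu, mul_one, h3] at h2
    exact E.z_ne h2
  refine ⟨x ^ 8, g, k, hyo, ?_, ?_, ?_⟩
  · have hab : ev [0, 3, 5, 2, 4, 6] = ev [0, 3, 5] * ev [2, 4, 6] :=
      H769.PB.CoThreeTwo.ev_append [0, 3, 5] [2, 4, 6]
    have ha : ev [0, 3, 5] * ev [0, 3, 5] = 1 := by rw [← sq, H769.PB.CoThreeTwo.a_sq]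
    have hb : ev [2, 4, 6] * ev [2, 4, 6] = 1 := by rw [← sq, H769.PB.CoThreeTwo.b_sq]
    have hker : π (g * x ^ 8 * g⁻¹ * ((x ^ 8)⁻¹)⁻¹) = 1 := by
      rw [inv_inv, map_mul, map_mul, map_mul, map_inv, hπy, hg, hab, inv_eq_of_mul_eq_one_right ha]
      calc ev [0, 3, 5] * (ev [0, 3, 5] * ev [2, 4, 6]) * ev [0, 3, 5] * (ev [0, 3, 5] * ev [2, 4, 6])
          = (ev [0, 3, 5] * ev [0, 3, 5]) * (ev [2, 4, 6] * (ev [0, 3, 5] * ev [0, 3, 5]) * ev [2, 4, 6]) := by
            simp only [mul_assoc]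
        _ = 1 := by rw [ha, mul_one, one_mul, hb]
    rcases E.ker _ hker with h | h
    · exact mul_inv_eq_one.1 h
    · exact absurd h (hno g _ (by rw [inv_pow, hy7, inv_one]))
  · have hker : π (k * x ^ 8 * k⁻¹ * (x ^ 8 * x ^ 8)⁻¹) = 1 := by
      rw [map_mul, map_mul, map_mul, map_inv, map_inv, map_mul, hπy, hk, mul_inv_eq_one, mul_inv_eq_iff_eq_mul]
      exact SpSeven3.w3_conj
    rcases E.ker _ hker with h | h
    · exact mul_inv_eq_one.1 h
    · refine absurd h (hno k _ ?_)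
      rw [← sq, ← pow_mul, mul_comm, pow_mul, hy7, one_pow]
  · intro w hw hc
    have hpy : orderOf (π (x ^ 8)) = 7 := by
      rw [hπy]
      exact orderOf_eq_prime H769.PB.CoThreeTwo.c_pow H769.PB.CoThreeTwo.c_ne
    have h1 : π w = 1 := by
      refine SpSeven3.no_three hpy ?_ ?_
      · rw [← map_mul, ← map_mul, hw, map_one]
      · rw [← map_mul, ← map_mul, hc]
    rcases E.ker w h1 with h | h
    · exact h
    · exfalso
      rw [h, E.z_sq, one_mul] at hw
      exact E.z_ne hw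

open Cfsg.Agent.SporRec.Co3.Chain (G3 isCo3_G3)
open Cfsg.Agent.SporRec.Co3.Ident (Z)

theorem finite_G3 : Finite G3 := Nat.finite_of_card_ne_zero (by rw [isCo3_G3.2]; norm_num)

theorem iso_G3 : Spor.IsoCo3 G3 := ⟨SporRec.Co3.Model.equivCo3⟩

theorem inner_G3 : ∀ σ : MulAut G3, ∃ g : G3, σ = MulAut.conj g := inner_of_range (H555.TwoSp.range_conj iso_G3)

/-- **The elements of order seven.** -/
theorem seven : ∃ y : G3, orderOf y = 7 ∧ IsConj y y⁻¹ ∧
    Nat.card (centralizer ({y} : Set G3)) = 6 * 7 ∧ ∃ a b : G3, Commute a y ∧ Commute b y ∧ a * b ≠ b * a := by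
  have hfin := finite_G3
  have h7 : Fact (Nat.Prime 7) := ⟨by norm_num⟩
  have hcard : Nat.card G3 = 495766656000 := isCo3_G3.2
  have hG : ¬ 7 ^ 2 ∣ Nat.card G3 := by rw [hcard]; norm_num
  obtain ⟨π, N⟩ := KFacts.Co3D4.exists_NS_G3
  obtain ⟨y, g, k, hy, hgy, hky, hno⟩ := exists_data N.toExt
  have hyo : orderOf (y : G3) = 7 := by rw [Subgroup.orderOf_coe, hy]
  have hgy' : (g : G3) * y * (g : G3)⁻¹ = (y : G3)⁻¹ := congrArg Subtype.val hgy
  have hky' : (k : G3) * y * (k : G3)⁻¹ = (y : G3) * y := congrArg Subtype.val hky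
  have hyZ : Commute (Z : G3) (y : G3) := (mem_centralizer_singleton_iff.1 y.2).symm
  have hcen : Nat.card (centralizer ({(y : G3)} : Set G3)) = 6 * 7 := by
    obtain ⟨K, h, -⟩ := exists_setup hG hyo
    obtain ⟨k', m, hkm, hcn⟩ := H555.TwoSp.cn7 iso_G3
    obtain ⟨h1, h2⟩ := hcn (zpowers (y : G3)) (by rw [Nat.card_zpowers, hyo])
    have h3 := h.card_eq (T := centralizer ((zpowers (y : G3) : Subgroup G3) : Set G3))
      h.le_centralizer centralizer_le_normalizer
    have h4 := h.card_eq (T := normalizer ((zpowers (y : G3) : Subgroup G3) : Set G3))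
      (h.le_centralizer.trans centralizer_le_normalizer) le_rfl
    have hL : Nat.card (LL (zpowers (y : G3)) K) = k' := by
      change _ = Nat.card (LL (zpowers (y : G3)) K) * 7 at h3
      omega
    have hK : Nat.card K = m := by
      have h5 : Nat.card ((normalizer ((zpowers (y : G3) : Subgroup G3) : Set G3)).subgroupOf K) = Nat.card K := by
        rw [subgroupOf_eq_top.2 h.le, Nat.card_congr topEquiv.toEquiv]
      omega
    have hidx : (LL (zpowers (y : G3)) K).index * k' = m := by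
      rw [← hL, ← hK, mul_comm]
      exact card_mul_index _
    have hnorm := h.normal
    -- elements of `K`
    have hact : ∀ a : G3, (∃ i : ℕ, a * y * a⁻¹ = (y : G3) ^ i) → a * y * a⁻¹ ≠ 1 →
        ∃ b : K, (b : G3) * y * (b : G3)⁻¹ = a * y * a⁻¹ := by
      rintro a ⟨i, hi⟩ hne
      have haN : a ∈ normalizer ((zpowers (y : G3) : Subgroup G3) : Set G3) := by
        refine Cfsg.Agent.Blocks.CyclicLower2.mem_normalizer_of_conj_mem h7.out h.card
          (y := a * y * a⁻¹) (by rw [hi]; exact pow_mem (mem_zpowers _) i) hne a ?_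
        have : a⁻¹ * (a * y * a⁻¹) * a = y := by group
        rw [this]
        exact mem_zpowers _
      obtain ⟨b, hb, w, hw, rfl⟩ := h.mul a haN
      refine ⟨⟨b, hb⟩, ?_⟩
      have h6 : w * y * w⁻¹ = (y : G3) := by
        obtain ⟨j, rfl⟩ := mem_zpowers_iff.1 hw
        group
      calc b * y * b⁻¹ = b * (w * y * w⁻¹) * b⁻¹ := by rw [h6]
        _ = b * w * y * (b * w)⁻¹ := by group
    have hy1 : (y : G3) ≠ 1 := by
      intro h6
      rw [h6, orderOf_one] at hyo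
      omega
    have hpw : ∀ i : ℕ, (y : G3) ^ i = 1 → 7 ∣ i := fun i hi => hyo ▸ orderOf_dvd_of_pow_eq_one hi
    obtain ⟨b1, hb1⟩ := hact g ⟨6, by
        rw [hgy', inv_eq_iff_mul_eq_one, ← pow_succ', show 6 + 1 = orderOf (y : G3) from hyo.symm, pow_orderOf_eq_one]⟩
      (by rw [hgy']; exact inv_ne_one.2 hy1)
    obtain ⟨b2, hb2⟩ := hact k ⟨2, by rw [hky', pow_two]⟩ (by
      rw [hky', ← pow_two]
      intro h6
      have := hpw 2 h6
      omega)
    rw [hgy'] at hb1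
    rw [hky', ← pow_two] at hb2
    -- powers in `L`
    have hpow : ∀ b : K, ((b ^ (LL (zpowers (y : G3)) K).index : K) : G3) * y =
        y * ((b ^ (LL (zpowers (y : G3)) K).index : K) : G3) := by
      intro b
      have h6 := Subgroup.pow_index_mem (LL (zpowers (y : G3)) K) b
      have h7 := mem_LL.1 h6
      rw [centralizer_zpowers, mem_centralizer_singleton_iff] at h7
      exact h7
    -- the index
    have hb1' : ∀ n : ℕ, ((b1 : G3) ^ n) * y * ((b1 : G3) ^ n)⁻¹ = (y : G3) ^ (6 ^ n) := by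
      intro n
      induction n with
      | zero => simp
      | succ n ih =>
        rw [pow_succ' (b1 : G3)]
        calc (b1 : G3) * (b1 : G3) ^ n * y * ((b1 : G3) * (b1 : G3) ^ n)⁻¹
            = b1 * ((b1 : G3) ^ n * y * ((b1 : G3) ^ n)⁻¹) * (b1 : G3)⁻¹ := by group
          _ = (b1 * y * (b1 : G3)⁻¹) ^ (6 ^ n) := by rw [ih, conj_pow]
          _ = (y : G3) ^ (6 ^ (n + 1)) := by
            rw [hb1]
            have h6 : (y : G3)⁻¹ = (y : G3) ^ 6 := by
              rw [inv_eq_iff_mul_eq_one, ← pow_succ', show 6 + 1 = orderOf (y : G3) from hyo.symm,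
                pow_orderOf_eq_one]
            rw [h6, ← pow_mul, ← pow_succ']
    have hb2' : ∀ n : ℕ, ((b2 : G3) ^ n) * y * ((b2 : G3) ^ n)⁻¹ = (y : G3) ^ (2 ^ n) := by
      intro n
      induction n with
      | zero => simp
      | succ n ih =>
        rw [pow_succ' (b2 : G3)]
        calc (b2 : G3) * (b2 : G3) ^ n * y * ((b2 : G3) * (b2 : G3) ^ n)⁻¹
            = b2 * ((b2 : G3) ^ n * y * ((b2 : G3) ^ n)⁻¹) * (b2 : G3)⁻¹ := by group
          _ = (b2 * y * (b2 : G3)⁻¹) ^ (2 ^ n) := by rw [ih, conj_pow]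
          _ = (y : G3) ^ (2 ^ (n + 1)) := by rw [hb2, ← pow_mul, ← pow_succ']
    have hfix : ∀ (b : K) (n j : ℕ), (LL (zpowers (y : G3)) K).index = n →
        (b : G3) ^ n * y * ((b : G3) ^ n)⁻¹ = (y : G3) ^ (j + 1) → 7 ∣ j := by
      intro b n j hn hb
      have h6 := hpow b
      rw [hn] at h6
      push_cast at h6
      rw [h6, mul_inv_cancel_right, pow_succ] at hb
      exact hpw j (by
        have h8 : (y : G3) ^ j * y = 1 * y := by rw [← hb, one_mul]
        exact mul_right_cancel h8)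
    rcases hkm with ⟨rfl, rfl⟩ | ⟨rfl, rfl⟩ | ⟨rfl, rfl⟩ | ⟨rfl, rfl⟩
    · rw [← centralizer_zpowers, h1]
    · exfalso
      have hi : (LL (zpowers (y : G3)) K).index = 2 := by omega
      have := hfix b2 2 3 hi (by rw [hb2']; norm_num)
      omega
    · exfalso
      have hi : (LL (zpowers (y : G3)) K).index = 3 := by omega
      have := hfix b1 3 215 hi (by rw [hb1']; norm_num)
      omega
    · exfalso
      have hi : (LL (zpowers (y : G3)) K).index = 1 := by omega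
      have := hfix b2 1 1 hi (by rw [hb2']; norm_num)
      omega
  refine ⟨y, hyo, isConj_iff.2 ⟨g, hgy'⟩, hcen, ?_⟩
  have h3 : Fact (Nat.Prime 3) := ⟨Nat.prime_three⟩
  obtain ⟨w, hw⟩ := exists_prime_orderOf_dvd_card' (G := centralizer ({(y : G3)} : Set G3)) 3 (by rw [hcen]; norm_num)
  have hwo : orderOf (w : G3) = 3 := by rw [Subgroup.orderOf_coe, hw]
  have hwy : Commute (w : G3) (y : G3) := mem_centralizer_singleton_iff.1 w.2
  refine ⟨Z, w, hyZ, hwy, fun hc => ?_⟩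
  have hwZ : (w : G3) ∈ centralizer ({Z} : Set G3) := mem_centralizer_singleton_iff.2 hc.symm
  have h4 := hno ⟨(w : G3), hwZ⟩ (Subtype.ext (by
    show (w : G3) * w * w = 1
    have h5 := pow_orderOf_eq_one (w : G3)
    rw [hwo, pow_succ, pow_two] at h5
    exact h5)) (Subtype.ext hwy.symm.eq)
  have h5 : (w : G3) = 1 := congrArg Subtype.val h4
  rw [h5, orderOf_one] at hwo
  omega

theorem many_two : Many 2 G3 3 := by
  have hfin := finite_G3
  have h7 : Fact (Nat.Prime 7) := ⟨by norm_num⟩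
  obtain ⟨y, h1, h2, h3, h4⟩ := seven
  obtain ⟨χ, h5, h6, -⟩ := three_even_of_cent (p := 7) (by norm_num) (by rw [isCo3_G3.2]; norm_num) h1 h2
    (Or.inl rfl) h3 h4
  exact many_of_inner inner_G3 χ h5 h6

open Cfsg.Agent.H843.IMC.Co3B in
theorem many_three : Many 3 Gw 3 := by
  have h3 : Fact (Nat.Prime 3) := ⟨Nat.prime_three⟩
  have hfin : Finite Gw := Nat.finite_of_card_ne_zero (by rw [card_Gw]; norm_num)
  have hin : ∀ σ : MulAut Gw, ∃ g : Gw, σ = MulAut.conj g :=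
    inner_of_range (H555.TwoSp.range_conj (by
      obtain ⟨f⟩ := nonempty_equiv
      exact ⟨f.symm⟩))
  refine many_of_ND hin (H651.Two.three_le_of_elt orderOf_x (by norm_num) (by rw [card_Gw]; norm_num) ?_)
  rw [← KK_eq]
  obtain ⟨θ, hθ, -⟩ := exists_theta
  refine ⟨θ, ?_⟩
  have h1 : (Nat.card ↥KK).factorization 3 ≤ 4 := by
    by_contra hcon
    exact not_dvd_KK ((Nat.prime_three.pow_dvd_iff_le_factorization Nat.card_pos.ne').2 (by omega))
  have h2 : (charDegree (θ : ↥KK → ℂ)).factorization 3 = 3 := by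
    rw [hθ, show (27 : ℕ) = 3 ^ 3 by norm_num, Nat.prime_three.factorization_pow]
    simp
  rw [h2]
  exact h1

theorem many_five : Many 5 Spor.Co3 2 := by
  obtain ⟨-, χ, hχ, -⟩ := H769.PB.CoThreeRank5.exists_chars
  obtain ⟨ψ, hψ⟩ := H843.IMC.Co3A.hasDeg_275
  refine Many.of_degrees ![χ, ψ] (fun i => ?_) (fun i j hij => ?_)
  · fin_cases i
    · show 5 ∣ charDegree (χ : Spor.Co3 → ℂ)
      rw [hχ]; norm_num
    · show 5 ∣ charDegree (ψ : Spor.Co3 → ℂ)
      rw [hψ]; norm_num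
  · fin_cases i <;> fin_cases j
    · rfl
    · exfalso
      change charDegree (χ : Spor.Co3 → ℂ) = charDegree (ψ : Spor.Co3 → ℂ) at hij
      rw [hχ, hψ] at hij
      omega
    · exfalso
      change charDegree (ψ : Spor.Co3 → ℂ) = charDegree (χ : Spor.Co3 → ℂ) at hij
      rw [hχ, hψ] at hij
      omega
    · rfl

/-- **S4769 for `Co₃`.** -/
theorem row_co3 : H759.Dl.RowF.{u} (fun S => Spor.IsoCo3 S) := by
  intro S _ _ _ h p hp hd
  have : Fact p.Prime := ⟨hp⟩
  have hcard : Nat.card S = 495766656000 := H555.TwoSp.card_co3 h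
  have him : H33.IM p S := H843.IMC.Rows.im_co3 h hd
  have hone : ∀ a : ℕ, a ≤ 2 → ¬ p ^ (a + 1) ∣ Nat.card S → Row p S := fun a ha h2 =>
    Row.of_im (H680.Dl.dlLe_one ha h2) him
  rw [hcard] at hd
  have h1 : (495766656000 : ℕ) = 2 ^ 10 * (3 ^ 7 * (5 ^ 3 * (7 * (11 * 23)))) := by norm_num
  rw [h1] at hd
  rcases hp.dvd_mul.1 hd with h2 | h2
  · obtain rfl := (Nat.prime_dvd_prime_iff_eq hp Nat.prime_two).1 (hp.dvd_of_dvd_pow h2)
    obtain ⟨e⟩ := h
    refine ⟨3, H680.Dl.dlLe_three (a := 10) (by norm_num) (by rw [hcard]; norm_num), ?_⟩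
    exact many_two.of_equiv (e.trans SporRec.Co3.Model.equivCo3.symm)
  rcases hp.dvd_mul.1 h2 with h3 | h3
  · obtain rfl := (Nat.prime_dvd_prime_iff_eq hp Nat.prime_three).1 (hp.dvd_of_dvd_pow h3)
    obtain ⟨e⟩ := h
    obtain ⟨f⟩ := H843.IMC.Co3B.nonempty_equiv
    refine ⟨3, H680.Dl.dlLe_three (a := 7) (by norm_num) (by rw [hcard]; norm_num), ?_⟩
    exact many_three.of_equiv (e.trans f)
  rcases hp.dvd_mul.1 h3 with h4 | h4
  · obtain rfl := (Nat.prime_dvd_prime_iff_eq hp Nat.prime_five).1 (hp.dvd_of_dvd_pow h4)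
    obtain ⟨e⟩ := h
    exact ⟨2, H680.Dl.dlLe_two (a := 3) (by norm_num) (by rw [hcard]; norm_num), many_five.of_equiv e⟩
  rcases hp.dvd_mul.1 h4 with h5 | h5
  · obtain rfl := (Nat.prime_dvd_prime_iff_eq hp (by norm_num)).1 h5
    exact hone 1 (by norm_num) (by rw [hcard]; norm_num)
  rcases hp.dvd_mul.1 h5 with h6 | h6
  · obtain rfl := (Nat.prime_dvd_prime_iff_eq hp (by norm_num)).1 h6
    exact hone 1 (by norm_num) (by rw [hcard]; norm_num)
  · obtain rfl := (Nat.prime_dvd_prime_iff_eq hp (by norm_num)).1 h6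
    exact hone 1 (by norm_num) (by rw [hcard]; norm_num)

end Cfsg.Agent.H633.Dl.Co3
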