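import Cfsg.Agent.H593.IMEven
import Cfsg.Agent.H593.D1Block
import Cfsg.Agent.S0924
import Cfsg.Agent.Blocks.Knorr

/-!
# Even degrees in the blocks of defect one (helper633; S4769)

`|G|_p = p` odd, `P` of order `p`, `K` a complement of `P` in its normalizer, `L = C_K(P)`, `θ ∈ Irr(L)` fixed by
some `k ∈ K` inverting `P`: the block of `G` above `θ` contains a character of even degree
(`exists_even_DD`). Characters not conjugate under `K` belong to different blocks (`cj_of_DD_ne`).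
-/

set_option autoImplicit false
set_option linter.unusedSectionVars false

namespace Cfsg.Agent.H633.Dl

open Cfsg
open scoped ComplexConjugate
open Cfsg.Agent.H593.D1Local Cfsg.Agent.H593.D1Char Cfsg.Agent.H593.D1Sec Cfsg.Agent.H593.D1Gram
open Cfsg.Agent.H593.D1Block Cfsg.Agent.H593.IMEven
open Cfsg.Agent.Characters.Core (isIrr_isCharacter finite_irr isCharacter_apply_inv)
open Cfsg.Agent.Blocks.Basic Cfsg.Agent.Blocks.Local

universe u

variable {G : Type u} [Group G] [Fintype G] {p : ℕ} [hp : Fact p.Prime] {P K : Subgroup G}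
  (h : Loc p P K)

include h

theorem conj_DD [Fintype (LL P K)] {θ : LL P K → ℂ} (hθ : IsIrrCharacter (LL P K) θ) {χ : G → ℂ}
    (hχ : IsIrrCharacter G χ) {x : G} (hx : x ∈ P) : conj (DD θ χ x) = DD θ χ x⁻¹ := by
  rw [DD_def, DD_def, map_mul, map_sum, map_inv₀, Complex.conj_natCast]
  congr 1
  refine Fintype.sum_equiv (Equiv.inv (LL P K)) _ _ fun l => ?_
  rw [map_mul, Complex.conj_conj, ← isCharacter_apply_inv (isIrr_isCharacter hχ)]
  have h5 : x * ((l : K) : G) = ((l : K) : G) * x := h.comm hx (mem_LL.1 l.2)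
  have h6 : θ (Equiv.inv (LL P K) l) = conj (θ l) := isCharacter_apply_inv (isIrr_isCharacter hθ) l
  rw [h6, Complex.conj_conj, h5, mul_inv_rev]
  rfl

/-- **Even degree in the block above `θ`.** -/
theorem exists_even_DD [Fintype (LL P K)] {x : G} (hx : x ∈ P) (hx1 : x ≠ 1) (hp2 : p ≠ 2)
    (θ : IrrCharacter (LL P K)) (hinv : ∃ k : K, (k : G) * x * (k : G)⁻¹ = x⁻¹ ∧ cj h k θ = θ) :
    ∃ χ : IrrCharacter G, 2 ∣ charDegree (χ : G → ℂ) ∧ DD (θ : LL P K → ℂ) (χ : G → ℂ) x ≠ 0 := by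
  classical
  by_contra hcon
  push Not at hcon
  have := Fintype.ofFinite K
  have := Fintype.ofFinite P
  have hfin := finite_irr (G := G)
  have := Fintype.ofFinite (IrrCharacter G)
  let d : IrrCharacter G → ℂ := fun χ => DD (θ : LL P K → ℂ) (χ : G → ℂ) x
  have hd : ∀ χ, IsIntegral ℤ (d χ) := fun χ => isIntegral_DD h θ.2 (isIrr_isCharacter χ.2) hx
  obtain ⟨k, hk, hkθ⟩ := hinv
  -- the values are real
  have hdr : ∀ χ, conj (d χ) = d χ := by
    intro χ
    have h1 := DD_cj h k θ χ.2 x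
    rw [hkθ, hk] at h1
    exact (conj_DD h θ.2 χ.2 hx).trans h1.symm
  -- orthogonality with the column of `1`
  have h1 : ∑ χ : IrrCharacter G, (χ : G → ℂ) 1 * d χ = 0 := by
    have h2 := sum_DD (P := P) (K := K) (θ : LL P K → ℂ) x 1
    have h3 : ∀ l : LL P K,
        (Finset.univ.filter fun u : G => u * (x * ((l : K) : G)) * u⁻¹ = 1).card = 0 := by
      intro l
      rw [Finset.card_eq_zero, Finset.filter_eq_empty_iff]
      intro u _ hu
      have h4 : x * ((l : K) : G) = 1 := by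
        have : x * ((l : K) : G) = u⁻¹ * (u * (x * ((l : K) : G)) * u⁻¹) * u := by group
        rw [this, hu]; group
      have h5 := h.dvd_orderOf hx hx1 l
      rw [h4, orderOf_one, Nat.dvd_one] at h5
      exact hp.out.one_lt.ne' h5
    simp only [h3, Nat.cast_zero, mul_zero, Finset.sum_const_zero] at h2
    have h6 : ∀ χ : IrrCharacter G, (χ : G → ℂ) 1 * conj (DD (θ : LL P K → ℂ) (χ : G → ℂ) x) =
        (χ : G → ℂ) 1 * d χ := fun χ => by rw [hdr χ]
    simp only [h6] at h2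
    exact h2
  -- the norm
  have h2 : ∑ χ : IrrCharacter G, d χ * d χ = p := by
    have h3 := gram_eq h θ hx hx1 hx ⟨1, cj_one h θ, by simp⟩
    rw [← h3]
    exact Finset.sum_congr rfl fun χ _ => by rw [hdr χ]
  -- reduction modulo two
  have hdeg : ∀ χ : IrrCharacter G, ∃ n : ℕ, (χ : G → ℂ) 1 * d χ = 2 * ((n : ℂ) * d χ) + d χ := by
    intro χ
    by_cases h0 : d χ = 0
    · exact ⟨0, by rw [h0]; ring⟩
    obtain ⟨n, hn0, hn⟩ := Cfsg.Agent.Characters.Core.isIrr_apply_one χ.2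
    have h3 : ¬ 2 ∣ charDegree (χ : G → ℂ) := fun h3 => h0 (hcon χ h3)
    have h4 : charDegree (χ : G → ℂ) = n := by
      unfold charDegree
      rw [hn]
      simp
    rw [h4] at h3
    obtain ⟨m, hm⟩ : Odd n := Nat.not_even_iff_odd.1 (fun hh => h3 hh.two_dvd)
    exact ⟨m, by rw [hn, hm]; push_cast; ring⟩
  choose a ha using hdeg
  have hnat : ∀ n : ℕ, IsIntegral ℤ (n : ℂ) := fun n => by
    exact_mod_cast (isIntegral_algebraMap (R := ℤ) (A := ℂ) (x := (n : ℤ)))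
  -- `∑ d = - 2 ∑ a d`
  obtain ⟨s, hs, hs1⟩ : ∃ s : ℂ, IsIntegral ℤ s ∧ ∑ χ : IrrCharacter G, d χ = 2 * s := by
    refine ⟨-∑ χ : IrrCharacter G, (a χ : ℂ) * d χ, ?_, ?_⟩
    · exact (IsIntegral.sum _ fun χ _ => (hnat _).mul (hd χ)).neg
    · simp only [ha, Finset.sum_add_distrib, ← Finset.mul_sum] at h1
      linear_combination h1
  -- `(∑ d)² = ∑ d² + 2 t`
  obtain ⟨t, ht, ht1⟩ : ∃ t : ℂ, IsIntegral ℤ t ∧
      (∑ χ : IrrCharacter G, d χ) ^ 2 = (∑ χ : IrrCharacter G, d χ * d χ) + 2 * t := by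
    have key : ∀ S : Finset (IrrCharacter G), ∃ t : ℂ, IsIntegral ℤ t ∧
        (∑ χ ∈ S, d χ) ^ 2 = (∑ χ ∈ S, d χ * d χ) + 2 * t := by
      intro S
      induction S using Finset.induction_on with
      | empty => exact ⟨0, isIntegral_zero, by simp⟩
      | insert χ S hχ ih =>
        obtain ⟨t, ht, ht1⟩ := ih
        refine ⟨t + d χ * ∑ ψ ∈ S, d ψ, ht.add ((hd χ).mul (IsIntegral.sum _ fun ψ _ => hd ψ)), ?_⟩
        rw [Finset.sum_insert hχ, Finset.sum_insert hχ]
        linear_combination ht1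
    exact key _
  rw [h2, hs1] at ht1
  have h3 : (p : ℂ) = 2 * (2 * s ^ 2 - t) := by linear_combination -ht1
  obtain ⟨m, hm⟩ : Odd p := hp.out.odd_of_ne_two hp2
  have h4 : IsIntegral ℤ ((1 : ℂ) / 2) := by
    have h5 : (1 : ℂ) / 2 = (2 * s ^ 2 - t) - m := by
      have h6 : (p : ℂ) = 2 * (m : ℂ) + 1 := by rw [hm]; push_cast; ring
      rw [h6] at h3
      linear_combination (1 / 2 : ℂ) * h3
    rw [h5]
    have h7 : IsIntegral ℤ (2 : ℂ) := by exact_mod_cast hnat 2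
    exact ((h7.mul (hs.pow 2)).sub ht).sub (hnat m)
  obtain ⟨z, hz⟩ := Cfsg.Agent.Characters.GaloisBasic.exists_int_of_isIntegral h4 ⟨1 / 2, by norm_num⟩
  have h8 : (1 : ℤ) = 2 * z := by
    have : (1 : ℂ) = 2 * (z : ℂ) := by rw [← hz]; norm_num
    exact_mod_cast this
  omega

/-- Characters of `L` below the same character of `G` are conjugate. -/
theorem cj_of_DD_ne [Fintype (LL P K)] (hG : ¬ p ^ 2 ∣ Nat.card G) {x y : G} (hx : x ∈ P) (hx1 : x ≠ 1)
    (hy : y ∈ P) (hy1 : y ≠ 1) {χ : IrrCharacter G} {θ θ' : IrrCharacter (LL P K)}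
    (h1 : DD (θ : LL P K → ℂ) (χ : G → ℂ) x ≠ 0) (h2 : DD (θ' : LL P K → ℂ) (χ : G → ℂ) y ≠ 0) :
    ∃ k, θ' = cj h k θ := by
  classical
  obtain ⟨M, hM⟩ := Cfsg.Agent.Blocks.Knorr.exists_isPModular p
  have hMp : M.IsPrime := isPrime_of_isPModular hM
  have hB : IsPBlock M (blockOf M (χ : G → ℂ)) := ⟨χ, rfl⟩
  have hχB : χ ∈ blockOf M (χ : G → ℂ) := mem_blockOf_self χ
  have hind := induced_of_ne h hM hx hx1 hB hχB h1
  -- the defect group
  obtain ⟨l, hl⟩ : ∃ l : LL P K, (χ : G → ℂ) (x * ((l : K) : G)) ≠ 0 := by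
    by_contra hcon
    push Not at hcon
    apply h1
    rw [DD_def]
    simp only [hcon, zero_mul, Finset.sum_const_zero, mul_zero]
  obtain ⟨D, hD, hxD⟩ : ∃ D : Subgroup G, IsDefectGroup p M (blockOf M (χ : G → ℂ)) D ∧ x ∈ D := by
    by_contra hcon
    push Not at hcon
    exact hl (Cfsg.Agent.S0924.result p M hM χ _ _ (h.isPPart hx l) hcon)
  have hDP : D = P := by
    have hDp : IsPGroup p D := isPGroup_of_isDefectGroup hD
    obtain ⟨n, hn⟩ := IsPGroup.iff_card.1 hDp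
    have hn1 : n ≤ 1 := by
      by_contra hlt
      push Not at hlt
      exact hG ((Nat.pow_dvd_pow p hlt).trans (hn ▸ Subgroup.card_subgroup_dvd_card _))
    have hPx : P = Subgroup.zpowers x := by
      symm
      apply Subgroup.eq_of_le_of_card_ge
      · rw [Subgroup.zpowers_le]; exact hx
      · rw [h.card, Nat.card_zpowers, h.mem_pow hx hx1]
    symm
    apply Subgroup.eq_of_le_of_card_ge
    · rw [hPx, Subgroup.zpowers_le]; exact hxD
    · rw [hn, h.card]
      calc p ^ n ≤ p ^ 1 := Nat.pow_le_pow_right hp.out.pos hn1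
        _ = p := pow_one p
  rw [hDP] at hD
  exact exists_cj h hM hB hD hind hχB hy hy1 θ' h2

/-- The values of a character in the block above an invariant `θ`. -/
theorem apply_of_DD_ne [Fintype (LL P K)] (hG : ¬ p ^ 2 ∣ Nat.card G) {x : G} (hx : x ∈ P) (hx1 : x ≠ 1)
    {χ : IrrCharacter G} {θ : IrrCharacter (LL P K)} (hθ : ∀ k, cj h k θ = θ)
    (h1 : DD (θ : LL P K → ℂ) (χ : G → ℂ) x ≠ 0) (l : LL P K) :
    (χ : G → ℂ) (x * ((l : K) : G)) = DD (θ : LL P K → ℂ) (χ : G → ℂ) x * (θ : LL P K → ℂ) l := by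
  classical
  have := Fintype.ofFinite K
  have hne : (Nat.card (stab h θ) : ℂ) ≠ 0 := by exact_mod_cast Nat.card_pos.ne'
  have h2 := apply_mul_eq h θ hx (fun θ' hne => cj_of_DD_ne h hG hx hx1 hx hx1 h1 hne) l
  apply mul_left_cancel₀ hne
  rw [h2]
  have h3 : ∀ k : K, DD (θ : LL P K → ℂ) (χ : G → ℂ) ((k : G) * x * (k : G)⁻¹) *
      (θ : LL P K → ℂ) ⟨k * l * k⁻¹, h.normal.conj_mem l l.2 k⟩ =
      DD (θ : LL P K → ℂ) (χ : G → ℂ) x * (θ : LL P K → ℂ) l := by
    intro k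
    rw [← DD_cj h k θ χ.2 x, ← cj_apply h k θ l, hθ k]
  rw [Finset.sum_congr rfl fun k _ => h3 k, Finset.sum_const, Finset.card_univ, nsmul_eq_mul]
  congr 1
  have h4 : stab h θ = ⊤ := by
    rw [eq_top_iff]
    intro k _
    exact hθ k
  rw [h4, Nat.card_congr Subgroup.topEquiv.toEquiv, Nat.card_eq_fintype_card]

end Cfsg.Agent.H633.Dl
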