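import Cfsg.Agent.H633.Dl.Wrap
import Cfsg.Agent.Characters.Linear

/-!
# Three even degrees above `Sym(3)`, with some values (helper633; S4769)
-/

set_option autoImplicit false
set_option linter.unusedSectionVars false

namespace Cfsg.Agent.H633.Dl

open Cfsg
open scoped ComplexConjugate
open Cfsg.Agent.H593.D1Local Cfsg.Agent.H593.D1Char Cfsg.Agent.H593.D1Sec Cfsg.Agent.H593.D1Gram
open Cfsg.Agent.Blocks.Basic
open Cfsg.Agent.Characters.Core (isIrr_isCharacter finite_irr isCharacter_apply_inv)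

universe u

theorem normSq_linear {L : Type*} [Group L] [Finite L] {χ : IrrCharacter L}
    (h : charDegree (χ : L → ℂ) = 1) (l : L) : Complex.normSq ((χ : L → ℂ) l) = 1 := by
  have h1 : (χ : L → ℂ) 1 = 1 := by rw [irr_one_eq_charDegree χ.2, h, Nat.cast_one]
  obtain ⟨f, hf⟩ := Cfsg.Agent.Characters.Linear.exists_hom_of_isIrrCharacter χ.2 h1
  have h2 : (χ : L → ℂ) l = (f l : ℂ) := by rw [hf]
  have h3 := Cfsg.Agent.Characters.Linear.norm_hom_apply f l
  rw [h2, Complex.normSq_eq_norm_sq, h3, one_pow]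

/-- The character of degree two of a nonabelian group of order six vanishes on the involutions. -/
theorem rho_zero {L : Type*} [Group L] [Finite L] (hn : ¬ ∀ a b : L, a * b = b * a)
    (hc : Nat.card L = 6) {ρ : IrrCharacter L} (hρ : charDegree (ρ : L → ℂ) = 2) {l : L} (hl : orderOf l = 2) :
    (ρ : L → ℂ) l = 0 := by
  classical
  have hfin := finite_irr (G := L)
  have := Fintype.ofFinite (IrrCharacter L)
  obtain ⟨ρ', hρ', hall, hodd⟩ := exists_two hn (Or.inl hc)
  obtain rfl : ρ = ρ' := by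
    by_contra h
    have := hall ρ h
    omega
  obtain ⟨⟨μ, hμ1, hμt⟩⟩ : Nonempty {θ : IrrCharacter L // charDegree (θ : L → ℂ) = 1 ∧ θ ≠ tr L} := by
    by_contra h
    rw [not_nonempty_iff] at h
    rw [Nat.card_of_isEmpty] at hodd
    exact absurd hodd (by decide)
  have hρt : ρ ≠ tr L := by
    rintro rfl
    rw [deg_tr] at hρ
    omega
  have hρμ : ρ ≠ μ := by
    rintro rfl
    omega
  -- the centralizer
  have hcen : Nat.card (Subgroup.centralizer ({l} : Set L)) ≤ 3 := by
    by_contra hlt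
    push Not at hlt
    have hd := Subgroup.card_subgroup_dvd_card (Subgroup.centralizer ({l} : Set L))
    rw [hc] at hd
    have h6 : Nat.card (Subgroup.centralizer ({l} : Set L)) = 6 := by
      have := Nat.le_of_dvd (by norm_num) hd
      interval_cases Nat.card (Subgroup.centralizer ({l} : Set L)) <;> omega
    have htop : Subgroup.centralizer ({l} : Set L) = ⊤ := Subgroup.eq_top_of_card_eq _ (by rw [h6, hc])
    have hZ : Subgroup.zpowers l ≤ Subgroup.center L := by
      rw [Subgroup.zpowers_le, Subgroup.mem_center_iff]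
      intro g
      have : g ∈ Subgroup.centralizer ({l} : Set L) := by rw [htop]; exact Subgroup.mem_top g
      exact Subgroup.mem_centralizer_singleton_iff.1 this
    have hnorm : (Subgroup.zpowers l).Normal := by
      refine ⟨fun n hn g => ?_⟩
      rw [Subgroup.mem_center_iff.1 (hZ hn) g, mul_inv_cancel_right]
      exact hn
    have hidx : Nat.card (L ⧸ Subgroup.zpowers l) = 3 := by
      have h1 := Subgroup.card_mul_index (Subgroup.zpowers l)
      rw [Nat.card_zpowers, hl, hc] at h1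
      have h2 : (Subgroup.zpowers l).index = Nat.card (L ⧸ Subgroup.zpowers l) := rfl
      omega
    have h3 : Fact (Nat.Prime 3) := ⟨Nat.prime_three⟩
    have hcyc : IsCyclic (L ⧸ Subgroup.zpowers l) := isCyclic_of_prime_card (p := 3) hidx
    have hcm := commutative_of_cyclic_center_quotient (QuotientGroup.mk' (Subgroup.zpowers l))
      (by rw [QuotientGroup.ker_mk']; exact hZ)
    exact hn hcm
  have h2 : 2 ∣ Nat.card (Subgroup.centralizer ({l} : Set L)) := by
    have h3 : orderOf (⟨l, Subgroup.mem_centralizer_singleton_iff.2 rfl⟩ : Subgroup.centralizer ({l} : Set L)) ∣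
        Nat.card (Subgroup.centralizer ({l} : Set L)) := orderOf_dvd_natCard _
    rwa [Subgroup.orderOf_mk, hl] at h3
  have hcen2 : Nat.card (Subgroup.centralizer ({l} : Set L)) = 2 := by
    have : 0 < Nat.card (Subgroup.centralizer ({l} : Set L)) := Nat.card_pos
    omega
  have hsum := Cfsg.Agent.H686.CharKit.sum_normSq (G := L) l
  rw [hcen2] at hsum
  have hle : ∑ χ ∈ ({tr L, μ, ρ} : Finset (IrrCharacter L)), Complex.normSq ((χ : L → ℂ) l) ≤
      ∑ χ : IrrCharacter L, Complex.normSq ((χ : L → ℂ) l) :=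
    Finset.sum_le_sum_of_subset_of_nonneg (Finset.subset_univ _) fun χ _ _ => Complex.normSq_nonneg _
  rw [Finset.sum_insert (by simp [hμt.symm, hρt.symm]), Finset.sum_insert (by simp [hρμ.symm]),
    Finset.sum_singleton, hsum, normSq_linear deg_tr, normSq_linear hμ1] at hle
  have hge := Complex.normSq_nonneg ((ρ : L → ℂ) l)
  have h0 : Complex.normSq ((ρ : L → ℂ) l) = 0 := by
    push_cast at hle
    linarith
  exact Complex.normSq_eq_zero.1 h0

/-- **Three even degrees above `Sym(3)`.** -/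
theorem three_even_six {G : Type u} [Group G] [Finite G] {p : ℕ} [hp : Fact p.Prime] (hp2 : p ≠ 2)
    (hG : ¬ p ^ 2 ∣ Nat.card G) {x : G} (hx : orderOf x = p) (hreal : IsConj x x⁻¹)
    (hC : Nat.card (Subgroup.centralizer ({x} : Set G)) = 6 * p)
    (hnc : ∃ a b : G, Commute a x ∧ Commute b x ∧ a * b ≠ b * a) :
    ∃ χ : Fin 3 → IrrCharacter G, Function.Injective χ ∧ (∀ i, 2 ∣ charDegree (χ i : G → ℂ)) ∧
      (∀ z : G, Commute z x → ¬ p ∣ orderOf z → (χ 0 : G → ℂ) (x * z) = (χ 0 : G → ℂ) x) ∧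
      (∀ z : G, Commute z x → orderOf z = 2 → (χ 2 : G → ℂ) (x * z) = 0) := by
  classical
  have := Fintype.ofFinite G
  obtain ⟨K, h, hinv⟩ := exists_setup hG hx
  have hinv := hinv hreal
  have := Fintype.ofFinite (LL (Subgroup.zpowers x) K)
  have hx1 : x ≠ 1 := by
    rintro rfl
    rw [orderOf_one] at hx
    exact hp.out.one_lt.ne hx
  have hxP : x ∈ Subgroup.zpowers x := Subgroup.mem_zpowers x
  have hcard : Nat.card (LL (Subgroup.zpowers x) K) = 6 := by
    have h1 := h.card_eq (T := Subgroup.centralizer ((Subgroup.zpowers x : Subgroup G) : Set G))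
      h.le_centralizer centralizer_le_normalizer
    have h2 : Nat.card (Subgroup.centralizer ((Subgroup.zpowers x : Subgroup G) : Set G)) = 6 * p := by
      rw [centralizer_zpowers, hC]
    rw [h2] at h1
    exact (Nat.eq_of_mul_eq_mul_right hp.out.pos h1).symm
  have hn : ¬ ∀ a b : LL (Subgroup.zpowers x) K, a * b = b * a := by
    intro hcomm
    obtain ⟨a, b, ha, hb, hab⟩ := hnc
    apply hab
    have ha' : a ∈ Subgroup.centralizer ((Subgroup.zpowers x : Subgroup G) : Set G) := by
      rw [centralizer_zpowers, Subgroup.mem_centralizer_singleton_iff]; exact ha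
    have hb' : b ∈ Subgroup.centralizer ((Subgroup.zpowers x : Subgroup G) : Set G) := by
      rw [centralizer_zpowers, Subgroup.mem_centralizer_singleton_iff]; exact hb
    obtain ⟨y, l, rfl⟩ := h.dec ha'
    obtain ⟨y', l', rfl⟩ := h.dec hb'
    have e1 : Commute ((l : K) : G) ((l' : K) : G) :=
      congrArg (fun w : LL (Subgroup.zpowers x) K => ((w : K) : G)) (hcomm l l')
    have e2 : Commute (y : G) ((l : K) : G) := h.comm y.2 (mem_LL.1 l.2)
    have e3 : Commute (y : G) ((l' : K) : G) := h.comm y.2 (mem_LL.1 l'.2)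
    have e4 : Commute (y' : G) ((l : K) : G) := h.comm y'.2 (mem_LL.1 l.2)
    have e6 : Commute (y : G) (y' : G) := h.comm y.2 (h.le_centralizer y'.2)
    exact (((e6.mul_right e3).mul_left (e4.symm.mul_right e1))).eq
  obtain ⟨ρ, hρ, hall, hodd⟩ := exists_two hn (Or.inl hcard)
  obtain ⟨μ, hμ1, hμt, kμ, hkμ, hkμ'⟩ := exists_fixed_linear h hinv hodd
  obtain ⟨k0, hk0⟩ := hinv
  have hρc : ∀ k, cj h k ρ = ρ := by
    intro k
    by_contra hne
    have h1 := hall _ hne
    rw [deg_cj, hρ] at h1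
    omega
  let θ : Fin 3 → IrrCharacter (LL (Subgroup.zpowers x) K) := ![tr _, μ, ρ]
  have hθ : ∀ i, ∃ k : K, (k : G) * x * (k : G)⁻¹ = x⁻¹ ∧ cj h k (θ i) = θ i := by
    intro i
    fin_cases i
    · exact ⟨k0, hk0, cj_tr h k0⟩
    · exact ⟨kμ, hkμ, hkμ'⟩
    · exact ⟨k0, hk0, hρc k0⟩
  choose χ h1 h2 using fun i => exists_even_DD h hxP hx1 hp2 (θ i) (hθ i)
  have hsep : ∀ i j, i ≠ j → ∀ k, θ j ≠ cj h k (θ i) := by
    have e1 : ∀ k, tr (LL (Subgroup.zpowers x) K) ≠ cj h k μ := by
      intro k h3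
      apply hμt
      have h4 := congrArg (cj h k⁻¹) h3
      rw [← cj_mul, mul_inv_cancel, cj_one, cj_tr] at h4
      exact h4.symm
    have e2 : ∀ k, μ ≠ cj h k (tr (LL (Subgroup.zpowers x) K)) := fun k h3 => hμt (by rw [h3, cj_tr])
    have e3 : ∀ (a b : IrrCharacter (LL (Subgroup.zpowers x) K)), charDegree (a : LL (Subgroup.zpowers x) K → ℂ) = 2 →
        charDegree (b : LL (Subgroup.zpowers x) K → ℂ) = 1 → ∀ k, a ≠ cj h k b ∧ b ≠ cj h k a := by
      intro a b ha hb k
      refine ⟨fun h3 => ?_, fun h3 => ?_⟩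
      · rw [h3, deg_cj, hb] at ha
        omega
      · rw [h3, deg_cj, ha] at hb
        omega
    intro i j hij k
    fin_cases i <;> fin_cases j
    · exact absurd rfl hij
    · exact e2 k
    · exact (e3 _ _ hρ deg_tr k).1
    · exact e1 k
    · exact absurd rfl hij
    · exact (e3 _ _ hρ hμ1 k).1
    · exact (e3 _ _ hρ deg_tr k).2
    · exact (e3 _ _ hρ hμ1 k).2
    · exact absurd rfl hij
  refine ⟨χ, ?_, h1, fun z hz hp' => ?_, fun z hz hz2 => ?_⟩
  · intro i j hij
    by_contra hne
    have h3 := h2 j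
    rw [← hij] at h3
    obtain ⟨k, hk⟩ := cj_of_DD_ne h hG hxP hx1 hxP hx1 (h2 i) h3
    exact hsep i j hne k hk
  · obtain ⟨l, rfl⟩ := exists_LL h (z := z) (by
      rw [centralizer_zpowers, Subgroup.mem_centralizer_singleton_iff]
      exact hz) hp'
    have h3 := apply_of_DD_ne h hG hxP hx1 (θ := θ 0) (cj_tr h) (h2 0)
    have h4 := h3 1
    have h5 : x * (((1 : LL (Subgroup.zpowers x) K) : K) : G) = x := by simp
    rw [h5] at h4
    rw [h3 l, h4]
    rfl
  · have hp' : ¬ p ∣ orderOf z := by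
      rw [hz2]
      intro hd
      exact hp2 ((Nat.prime_dvd_prime_iff_eq hp.out Nat.prime_two).1 hd)
    obtain ⟨l, rfl⟩ := exists_LL h (z := z) (by
      rw [centralizer_zpowers, Subgroup.mem_centralizer_singleton_iff]
      exact hz) hp'
    have h3 := apply_of_DD_ne h hG hxP hx1 (θ := θ 2) hρc (h2 2) l
    rw [h3]
    have h4 : orderOf l = 2 := by
      rw [← Subgroup.orderOf_coe, ← Subgroup.orderOf_coe]
      exact hz2
    have h5 : (θ 2 : LL (Subgroup.zpowers x) K → ℂ) l = 0 := rho_zero hn hcard hρ h4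
    rw [h5, mul_zero]

end Cfsg.Agent.H633.Dl
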