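import Cfsg.Agent.H633.Dl.EvenBlk
import Cfsg.Agent.H686.CharKit
import Cfsg.Agent.S0187

/-!
# Three characters of even degree in the blocks of defect one (helper633; S4769)
-/

set_option autoImplicit false
set_option linter.unusedSectionVars false

namespace Cfsg.Agent.H633.Dl

open Cfsg
open scoped ComplexConjugate
open Cfsg.Agent.H593.D1Local Cfsg.Agent.H593.D1Char Cfsg.Agent.H593.D1Sec Cfsg.Agent.H593.D1Gram
open Cfsg.Agent.H593.D1Block Cfsg.Agent.H593.IMEven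
open Cfsg.Agent.Characters.Core (isIrr_isCharacter finite_irr isCharacter_apply_inv)
open Cfsg.Agent.Blocks.Basic

universe u

/-- The trivial character. -/
noncomputable def tr (L : Type*) [Group L] : IrrCharacter L := ⟨1, Cfsg.Agent.Characters.Core.isIrr_one⟩

theorem tr_apply {L : Type*} [Group L] (l : L) : (tr L : L → ℂ) l = 1 := rfl

theorem deg_tr {L : Type*} [Group L] : charDegree (tr L : L → ℂ) = 1 := by
  unfold charDegree
  rw [tr_apply]
  simp

/-- The degrees of a nonabelian group of order 6 or 8. -/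
theorem exists_two {L : Type*} [Group L] [Finite L] (hn : ¬ ∀ a b : L, a * b = b * a)
    (hc : Nat.card L = 6 ∨ Nat.card L = 8) :
    ∃ ρ : IrrCharacter L, charDegree (ρ : L → ℂ) = 2 ∧
      (∀ θ : IrrCharacter L, θ ≠ ρ → charDegree (θ : L → ℂ) = 1) ∧
      Odd (Nat.card {θ : IrrCharacter L // charDegree (θ : L → ℂ) = 1 ∧ θ ≠ tr L}) := by
  classical
  have hfin := finite_irr (G := L)
  have := Fintype.ofFinite (IrrCharacter L)
  have hsum := Cfsg.Agent.H686.CharKit.sum_deg_sq (G := L)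
  have hpos : ∀ θ : IrrCharacter L, 1 ≤ charDegree (θ : L → ℂ) := fun θ => charDegree_pos θ.2
  obtain ⟨ρ, hρ⟩ : ∃ ρ : IrrCharacter L, (ρ : L → ℂ) 1 ≠ 1 := by
    by_contra hcon
    push Not at hcon
    exact hn (Cfsg.Agent.S0187.result.2 hcon)
  have hρ1 : charDegree (ρ : L → ℂ) ≠ 1 := by
    intro h1
    apply hρ
    rw [irr_one_eq_charDegree ρ.2, h1, Nat.cast_one]
  have hρt : ρ ≠ tr L := by
    rintro rfl
    exact hρ1 deg_tr
  have h2 : ∀ (f : IrrCharacter L → ℕ), ∑ θ, f θ = f (tr L) + (f ρ +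
      ∑ θ ∈ (Finset.univ.erase (tr L)).erase ρ, f θ) := by
    intro f
    rw [← Finset.add_sum_erase _ _ (Finset.mem_univ (tr L)), ← Finset.add_sum_erase _ _
      (Finset.mem_erase.2 ⟨hρt, Finset.mem_univ ρ⟩)]
  have h3 := h2 fun θ => charDegree (θ : L → ℂ) ^ 2
  simp only [hsum, deg_tr, one_pow] at h3
  have hρ2 : charDegree (ρ : L → ℂ) = 2 := by
    have h4 := hpos ρ
    by_contra h5
    have h6 : 3 ≤ charDegree (ρ : L → ℂ) := by omega
    have h7 : 9 ≤ charDegree (ρ : L → ℂ) ^ 2 := by nlinarith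
    omega
  rw [hρ2] at h3
  have hall : ∀ θ : IrrCharacter L, θ ≠ ρ → charDegree (θ : L → ℂ) = 1 := by
    intro θ hθ
    by_cases ht : θ = tr L
    · rw [ht]; exact deg_tr
    have h4 : charDegree (θ : L → ℂ) ^ 2 ≤
        ∑ θ ∈ (Finset.univ.erase (tr L)).erase ρ, charDegree (θ : L → ℂ) ^ 2 :=
      Finset.single_le_sum (f := fun θ : IrrCharacter L => charDegree (θ : L → ℂ) ^ 2)
        (fun _ _ => Nat.zero_le _)
        (Finset.mem_erase.2 ⟨hθ, Finset.mem_erase.2 ⟨ht, Finset.mem_univ θ⟩⟩)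
    have h5 := hpos θ
    by_contra h6
    have h7 : 2 ≤ charDegree (θ : L → ℂ) := by omega
    have h8 : 4 ≤ charDegree (θ : L → ℂ) ^ 2 := by nlinarith
    omega
  refine ⟨ρ, hρ2, hall, ?_⟩
  have h4 : ∑ θ ∈ (Finset.univ.erase (tr L)).erase ρ, charDegree (θ : L → ℂ) ^ 2 =
      ((Finset.univ.erase (tr L)).erase ρ).card := by
    rw [Finset.card_eq_sum_ones]
    refine Finset.sum_congr rfl fun θ hθ => ?_
    rw [hall θ (Finset.mem_erase.1 hθ).1, one_pow]
  have h5 : Nat.card {θ : IrrCharacter L // charDegree (θ : L → ℂ) = 1 ∧ θ ≠ tr L} =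
      ((Finset.univ.erase (tr L)).erase ρ).card := by
    rw [Nat.card_eq_fintype_card, Fintype.card_subtype]
    congr 1
    ext θ
    simp only [Finset.mem_filter, Finset.mem_univ, true_and, Finset.mem_erase, and_true]
    constructor
    · rintro ⟨h6, h7⟩
      exact ⟨by rintro rfl; omega, h7⟩
    · rintro ⟨h6, h7⟩
      exact ⟨hall θ h6, h7⟩
  rw [h5, Nat.odd_iff]
  omega

variable {G : Type u} [Group G] [Fintype G] {p : ℕ} [hp : Fact p.Prime] {P K : Subgroup G}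
  (h : Loc p P K)

include h

theorem cj_tr (k : K) : cj h k (tr (LL P K)) = tr (LL P K) := by
  apply Subtype.ext
  funext l
  rw [cj_apply]
  rfl

theorem deg_cj (k : K) (θ : IrrCharacter (LL P K)) :
    charDegree (cj h k θ : LL P K → ℂ) = charDegree (θ : LL P K → ℂ) := by
  unfold charDegree
  rw [cj_apply]
  congr 2
  exact congrArg _ (Subtype.ext (by simp))

/-- The action of `K` on the characters of `L`. -/
noncomputable def cjAct : MulAction K (IrrCharacter (LL P K)) where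
  smul k θ := cj h k⁻¹ θ
  one_smul θ := by
    show cj h 1⁻¹ θ = θ
    rw [inv_one, cj_one]
  mul_smul a b θ := by
    show cj h (a * b)⁻¹ θ = cj h a⁻¹ (cj h b⁻¹ θ)
    rw [mul_inv_rev, cj_mul]

/-- An inverting element fixing a nontrivial linear character. -/
theorem exists_fixed_linear {x : G} (hinv : ∃ k : K, (k : G) * x * (k : G)⁻¹ = x⁻¹)
    (hodd : Odd (Nat.card {θ : IrrCharacter (LL P K) // charDegree (θ : LL P K → ℂ) = 1 ∧ θ ≠ tr (LL P K)})) :
    ∃ (θ : IrrCharacter (LL P K)), charDegree (θ : LL P K → ℂ) = 1 ∧ θ ≠ tr (LL P K) ∧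
      ∃ k : K, (k : G) * x * (k : G)⁻¹ = x⁻¹ ∧ cj h k θ = θ := by
  classical
  have hp2 : Fact (Nat.Prime 2) := ⟨Nat.prime_two⟩
  have hfin := finite_irr (G := LL P K)
  have : Finite K := inferInstance
  obtain ⟨k, hk⟩ := hinv
  -- an odd power of 2-power order
  obtain ⟨a, m, hm, ham⟩ : ∃ a m : ℕ, Odd m ∧ orderOf k = 2 ^ a * m := by
    obtain ⟨a, m, hm, h1⟩ := Nat.exists_eq_two_pow_mul_odd (orderOf_pos k).ne'
    exact ⟨a, m, hm, h1⟩
  have hkm : ((k ^ m : K) : G) * x * ((k ^ m : K) : G)⁻¹ = x⁻¹ := by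
    obtain ⟨j, rfl⟩ := hm
    have key : ∀ j : ℕ, ((k : G) ^ (2 * j + 1)) * x * ((k : G) ^ (2 * j + 1))⁻¹ = x⁻¹ := by
      intro j
      induction j with
      | zero => simpa using hk
      | succ j ih =>
        have h2 : (k : G) * x⁻¹ * (k : G)⁻¹ = x := by
          calc (k : G) * x⁻¹ * (k : G)⁻¹ = ((k : G) * x * (k : G)⁻¹)⁻¹ := by group
            _ = x := by rw [hk, inv_inv]
        have h3 : 2 * (j + 1) + 1 = 1 + (1 + (2 * j + 1)) := by ring
        rw [h3, pow_add (k : G) 1, pow_add (k : G) 1, pow_one]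
        calc (k : G) * (k * (k : G) ^ (2 * j + 1)) * x * ((k : G) * (k * (k : G) ^ (2 * j + 1)))⁻¹
            = k * (k * ((k : G) ^ (2 * j + 1) * x * ((k : G) ^ (2 * j + 1))⁻¹) * (k : G)⁻¹) * (k : G)⁻¹ := by
              simp only [mul_inv_rev, mul_assoc]
          _ = x⁻¹ := by rw [ih, h2, hk]
    have h4 := key j
    push_cast
    exact h4
  let A : MulAction K (IrrCharacter (LL P K)) := cjAct h
  have hsm : ∀ (b : K) (θ : IrrCharacter (LL P K)), b • θ = cj h b⁻¹ θ := fun b θ => rfl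
  let T : Type := Unit
  let A' : MulAction (Subgroup.zpowers (k ^ m)) {θ : IrrCharacter (LL P K) // charDegree (θ : LL P K → ℂ) = 1 ∧ θ ≠ tr (LL P K)} :=
    { smul := fun b θ => ⟨(b : K) • θ.1, by
        rw [hsm]
        refine ⟨by rw [deg_cj]; exact θ.2.1, fun h1 => θ.2.2 ?_⟩
        have h2 := congrArg (cj h (b : K)) h1
        rw [cj_tr, ← cj_mul, inv_mul_cancel, cj_one] at h2
        exact h2⟩
      one_smul := fun θ => Subtype.ext (one_smul K θ.1)
      mul_smul := fun a b θ => Subtype.ext (mul_smul (a : K) (b : K) θ.1) }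
  have hpg : IsPGroup 2 (Subgroup.zpowers (k ^ m)) := by
    refine IsPGroup.of_card (n := a) ?_
    rw [Nat.card_zpowers, orderOf_pow' k (by rintro rfl; exact absurd hm (by decide)), ham,
      Nat.gcd_eq_right (Dvd.intro_left _ rfl), Nat.mul_div_cancel _ hm.pos]
  obtain ⟨⟨θ, hθ1, hθ2⟩, hfix⟩ := hpg.nonempty_fixed_point_of_prime_not_dvd_card _
    (fun hd => (Nat.not_even_iff_odd.2 hodd) (even_iff_two_dvd.2 hd))
  refine ⟨θ, hθ1, hθ2, k ^ m, hkm, ?_⟩
  have h5 := congrArg Subtype.val (hfix ⟨(k ^ m)⁻¹, (Subgroup.zpowers (k ^ m)).inv_mem (Subgroup.mem_zpowers _)⟩)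
  have h6 : cj h ((k ^ m)⁻¹)⁻¹ θ = θ := h5
  rwa [inv_inv] at h6

/-- A character in a block above `θ` does not vanish on `xl` for some `l ≠ 1`. -/
theorem exists_apply_mul_ne [Fintype (LL P K)] (hG : ¬ p ^ 2 ∣ Nat.card G) {x : G} (hx : x ∈ P) (hx1 : x ≠ 1)
    (hL : Nat.card (LL P K) ≠ 1) {χ : IrrCharacter G} {θ : IrrCharacter (LL P K)}
    (h1 : DD (θ : LL P K → ℂ) (χ : G → ℂ) x ≠ 0) :
    ∃ l : LL P K, l ≠ 1 ∧ (χ : G → ℂ) (x * ((l : K) : G)) ≠ 0 := by
  classical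
  by_contra hcon
  push Not at hcon
  have h2 : ∀ θ' : IrrCharacter (LL P K), DD (θ' : LL P K → ℂ) (χ : G → ℂ) x =
      (Nat.card (LL P K) : ℂ)⁻¹ * ((χ : G → ℂ) x * (charDegree (θ' : LL P K → ℂ) : ℂ)) := by
    intro θ'
    rw [DD_def, Finset.sum_eq_single 1]
    · have h3 : x * (((1 : LL P K) : K) : G) = x := by simp
      rw [h3, irr_one_eq_charDegree θ'.2, Complex.conj_natCast]
    · intro l _ hl
      rw [hcon l hl, zero_mul]
    · intro hh
      exact absurd (Finset.mem_univ _) hh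
  have h3 : (χ : G → ℂ) x ≠ 0 := by
    intro h4
    rw [h2, h4, zero_mul, mul_zero] at h1
    exact h1 rfl
  have hN : (Nat.card (LL P K) : ℂ) ≠ 0 := by exact_mod_cast Nat.card_pos.ne'
  have h4 : ∀ θ' : IrrCharacter (LL P K), DD (θ' : LL P K → ℂ) (χ : G → ℂ) x ≠ 0 := by
    intro θ'
    rw [h2]
    refine mul_ne_zero (inv_ne_zero hN) (mul_ne_zero h3 ?_)
    exact_mod_cast (charDegree_pos θ'.2).ne'
  have h5 : θ = tr (LL P K) := by
    obtain ⟨k, hk⟩ := cj_of_DD_ne h hG hx hx1 hx hx1 h1 (h4 (tr (LL P K)))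
    have h6 := congrArg (cj h k⁻¹) hk
    rw [← cj_mul, mul_inv_cancel, cj_one, cj_tr] at h6
    exact h6.symm
  have h6 : ∀ θ' : IrrCharacter (LL P K), θ' = tr (LL P K) := by
    intro θ'
    obtain ⟨k, hk⟩ := cj_of_DD_ne h hG hx hx1 hx hx1 h1 (h4 θ')
    rw [hk, h5, cj_tr]
  have hfin := finite_irr (G := LL P K)
  have := Fintype.ofFinite (IrrCharacter (LL P K))
  have hsum := Cfsg.Agent.H686.CharKit.sum_deg_sq (G := LL P K)
  have h7 : (Finset.univ : Finset (IrrCharacter (LL P K))) = {tr (LL P K)} := by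
    ext θ'
    simp [h6 θ']
  rw [h7, Finset.sum_singleton, deg_tr, one_pow] at hsum
  exact hL hsum.symm

/-- **Three even degrees.** -/
theorem three_even (hp2 : p ≠ 2) (hG : ¬ p ^ 2 ∣ Nat.card G) {x : G} (hx : x ∈ P) (hx1 : x ≠ 1)
    (hinv : ∃ k : K, (k : G) * x * (k : G)⁻¹ = x⁻¹) (hn : ¬ ∀ a b : LL P K, a * b = b * a)
    (hc : Nat.card (LL P K) = 6 ∨ Nat.card (LL P K) = 8) :
    ∃ χ : Fin 3 → IrrCharacter G, Function.Injective χ ∧ (∀ i, 2 ∣ charDegree (χ i : G → ℂ)) ∧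
      ∀ i, ∃ l : LL P K, l ≠ 1 ∧ (χ i : G → ℂ) (x * ((l : K) : G)) ≠ 0 := by
  classical
  have := Fintype.ofFinite (LL P K)
  obtain ⟨ρ, hρ, hall, hodd⟩ := exists_two hn hc
  obtain ⟨μ, hμ1, hμt, kμ, hkμ, hkμ'⟩ := exists_fixed_linear h hinv hodd
  obtain ⟨k0, hk0⟩ := hinv
  have hρc : ∀ k, cj h k ρ = ρ := by
    intro k
    by_contra hne
    have h1 := hall _ hne
    rw [deg_cj, hρ] at h1
    omega
  let θ : Fin 3 → IrrCharacter (LL P K) := ![tr (LL P K), μ, ρ]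
  have hθ : ∀ i, ∃ k : K, (k : G) * x * (k : G)⁻¹ = x⁻¹ ∧ cj h k (θ i) = θ i := by
    intro i
    fin_cases i
    · exact ⟨k0, hk0, cj_tr h k0⟩
    · exact ⟨kμ, hkμ, hkμ'⟩
    · exact ⟨k0, hk0, hρc k0⟩
  choose χ h1 h2 using fun i => exists_even_DD h hx hx1 hp2 (θ i) (hθ i)
  have hsep : ∀ i j, i ≠ j → ∀ k, θ j ≠ cj h k (θ i) := by
    have e1 : ∀ k, tr (LL P K) ≠ cj h k μ := by
      intro k h3
      apply hμt
      have h4 := congrArg (cj h k⁻¹) h3
      rw [← cj_mul, mul_inv_cancel, cj_one, cj_tr] at h4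
      exact h4.symm
    have e2 : ∀ k, μ ≠ cj h k (tr (LL P K)) := fun k h3 => hμt (by rw [h3, cj_tr])
    have e3 : ∀ (a b : IrrCharacter (LL P K)), charDegree (a : LL P K → ℂ) = 2 →
        charDegree (b : LL P K → ℂ) = 1 → ∀ k, a ≠ cj h k b ∧ b ≠ cj h k a := by
      intro a b ha hb k
      refine ⟨fun h3 => ?_, fun h3 => ?_⟩
      · rw [h3, deg_cj, hb] at ha
        omega
      · rw [h3, deg_cj, ha] at hb
        omega
    intro i j hij k
    fin_cases i <;> fin_cases j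
    · exact absurd rfl hij
    · exact e2 k
    · exact (e3 _ _ hρ deg_tr k).1
    · exact e1 k
    · exact absurd rfl hij
    · exact (e3 _ _ hρ hμ1 k).1
    · exact (e3 _ _ hρ deg_tr k).2
    · exact (e3 _ _ hρ hμ1 k).2
    · exact absurd rfl hij
  refine ⟨χ, ?_, h1, fun i => exists_apply_mul_ne h hG hx hx1 (by omega) (h2 i)⟩
  intro i j hij
  by_contra hne
  have h3 := h2 j
  rw [← hij] at h3
  obtain ⟨k, hk⟩ := cj_of_DD_ne h hG hx hx1 hx hx1 (h2 i) h3
  exact hsep i j hne k hk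

end Cfsg.Agent.H633.Dl
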