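import Cfsg.Agent.H633.Dl.Three

/-!
# Even degrees from a real element of prime order (helper633; S4769)

`¬ p² ∣ |G|`, `x` of order `p` odd, conjugate to its inverse.
* `exists_even_principal`: `χ` of even degree with `χ (x z) = χ x ≠ 0` for all `p'`-elements `z` of `C(x)`;
* `three_even_of_cent`: three characters of even degree if `|C(x)| = 6p` or `8p` and `C(x)` is not abelian.
-/

set_option autoImplicit false
set_option linter.unusedSectionVars false

namespace Cfsg.Agent.H633.Dl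

open Cfsg
open scoped ComplexConjugate
open Cfsg.Agent.H593.D1Local Cfsg.Agent.H593.D1Char Cfsg.Agent.H593.D1Sec Cfsg.Agent.H593.D1Gram
open Cfsg.Agent.Blocks.Basic

universe u

/-- The subgroup `⟨x⟩`, a complement and an inverting element. -/
theorem exists_setup {G : Type u} [Group G] [Finite G] {p : ℕ} [hp : Fact p.Prime]
    (hG : ¬ p ^ 2 ∣ Nat.card G) {x : G} (hx : orderOf x = p) :
    ∃ K : Subgroup G, Loc p (Subgroup.zpowers x) K ∧
      (IsConj x x⁻¹ → ∃ k : K, (k : G) * x * (k : G)⁻¹ = x⁻¹) := by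
  classical
  have hz : IsPGroup p (Subgroup.zpowers x) := by
    rw [IsPGroup.iff_card]
    exact ⟨1, by rw [Nat.card_zpowers, hx, pow_one]⟩
  obtain ⟨P, hP⟩ := hz.exists_le_sylow
  obtain ⟨n, hn⟩ := IsPGroup.iff_card.1 P.isPGroup'
  have hn1 : n = 1 := by
    have h1 : n < 2 := by
      by_contra h
      push Not at h
      exact hG ((Nat.pow_dvd_pow p h).trans (hn ▸ Subgroup.card_subgroup_dvd_card _))
    have h2 : n ≠ 0 := by
      rintro rfl
      rw [pow_zero] at hn
      have h3 : Nat.card (Subgroup.zpowers x) ∣ Nat.card (P : Subgroup G) :=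
        Subgroup.card_dvd_of_le hP
      rw [hn, Nat.card_zpowers, hx, Nat.dvd_one] at h3
      exact hp.out.one_lt.ne' h3
    omega
  have hPc : Nat.card P = p := by rw [hn, hn1, pow_one]
  obtain ⟨K, hK⟩ := exists_loc P hPc
  have hPz : (P : Subgroup G) = Subgroup.zpowers x := by
    symm
    apply Subgroup.eq_of_le_of_card_ge hP
    rw [Nat.card_zpowers, hx, hPc]
  rw [hPz] at hK
  refine ⟨K, hK, fun hreal => ?_⟩
  obtain ⟨g, hg⟩ := isConj_iff.1 hreal
  have hgN : g ∈ Subgroup.normalizer ((Subgroup.zpowers x : Subgroup G) : Set G) := by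
    rw [Subgroup.mem_normalizer_iff]
    have key : ∀ (w : G), w ∈ Subgroup.zpowers x → g * w * g⁻¹ ∈ Subgroup.zpowers x := by
      intro w hw
      obtain ⟨i, rfl⟩ := Subgroup.mem_zpowers_iff.1 hw
      rw [← conj_zpow, hg]
      exact Subgroup.zpow_mem _ (Subgroup.inv_mem _ (Subgroup.mem_zpowers x)) i
    have key2 : ∀ (w : G), w ∈ Subgroup.zpowers x → g⁻¹ * w * g ∈ Subgroup.zpowers x := by
      intro w hw
      have h1 : g⁻¹ * x * g = x⁻¹ := by
        have h2 : x = g * x⁻¹ * g⁻¹ := by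
          have h3 : (g * x * g⁻¹)⁻¹ = (x⁻¹)⁻¹ := by rw [hg]
          rw [inv_inv] at h3
          calc x = (g * x * g⁻¹)⁻¹ := h3.symm
            _ = g * x⁻¹ * g⁻¹ := by group
        calc g⁻¹ * x * g = g⁻¹ * (g * x⁻¹ * g⁻¹) * g := by rw [← h2]
          _ = x⁻¹ := by group
      obtain ⟨i, rfl⟩ := Subgroup.mem_zpowers_iff.1 hw
      have h2 : g⁻¹ * x ^ i * g = (g⁻¹ * x * g) ^ i := by
        have := conj_zpow (a := g⁻¹) (b := x) (i := i)
        rw [inv_inv] at this
        exact this.symm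
      rw [h2, h1]
      exact Subgroup.zpow_mem _ (Subgroup.inv_mem _ (Subgroup.mem_zpowers x)) i
    intro w
    refine ⟨key w, fun hw => ?_⟩
    have := key2 _ hw
    have h3 : g⁻¹ * (g * w * g⁻¹) * g = w := by group
    rwa [h3] at this
  obtain ⟨k, hkK, y, hy, hgk⟩ := hK.mul g hgN
  have hkx : k * x * k⁻¹ = x⁻¹ := by
    rw [← hg, hgk]
    have h1 : y * x * y⁻¹ = x := by
      obtain ⟨i, rfl⟩ := Subgroup.mem_zpowers_iff.1 hy
      group
    calc k * x * k⁻¹ = k * (y * x * y⁻¹) * k⁻¹ := by rw [h1]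
      _ = k * y * x * (k * y)⁻¹ := by group
  exact ⟨⟨k, hkK⟩, hkx⟩

theorem centralizer_zpowers {G : Type u} [Group G] (x : G) :
    Subgroup.centralizer ((Subgroup.zpowers x : Subgroup G) : Set G) = Subgroup.centralizer {x} := by
  rw [Subgroup.zpowers_eq_closure, Subgroup.centralizer_closure]

/-- `p'`-elements of the centralizer of `P` lie in the complement. -/
theorem exists_LL {G : Type u} [Group G] [Finite G] {p : ℕ} [hp : Fact p.Prime] {P K : Subgroup G}
    (h : Loc p P K) {z : G} (hz : z ∈ Subgroup.centralizer (P : Set G)) (hp' : ¬ p ∣ orderOf z) :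
    ∃ l : LL P K, ((l : K) : G) = z := by
  obtain ⟨y, l, hzl⟩ := h.dec hz
  refine ⟨l, ?_⟩
  have hy : (y : G) = 1 := by
    by_contra hy1
    apply hp'
    rw [hzl]
    exact h.dvd_orderOf y.2 hy1 l
  rw [hzl, hy, one_mul]

/-- **An even degree in the principal `p`-block.** -/
theorem exists_even_principal {G : Type u} [Group G] [Finite G] {p : ℕ} [hp : Fact p.Prime] (hp2 : p ≠ 2)
    (hG : ¬ p ^ 2 ∣ Nat.card G) {x : G} (hx : orderOf x = p) (hreal : IsConj x x⁻¹) :
    ∃ χ : IrrCharacter G, 2 ∣ charDegree (χ : G → ℂ) ∧ (χ : G → ℂ) x ≠ 0 ∧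
      ∀ z : G, Commute z x → ¬ p ∣ orderOf z → (χ : G → ℂ) (x * z) = (χ : G → ℂ) x := by
  classical
  have := Fintype.ofFinite G
  obtain ⟨K, h, hinv⟩ := exists_setup hG hx
  have := Fintype.ofFinite (LL (Subgroup.zpowers x) K)
  have hx1 : x ≠ 1 := by
    rintro rfl
    rw [orderOf_one] at hx
    exact hp.out.one_lt.ne hx
  have hxP : x ∈ Subgroup.zpowers x := Subgroup.mem_zpowers x
  obtain ⟨k, hk⟩ := hinv hreal
  obtain ⟨χ, h1, h2⟩ := exists_even_DD h hxP hx1 hp2 (tr _) ⟨k, hk, cj_tr h k⟩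
  have h3 := apply_of_DD_ne h hG hxP hx1 (cj_tr h) h2
  have h4 : (χ : G → ℂ) x = DD (tr (LL (Subgroup.zpowers x) K) : LL (Subgroup.zpowers x) K → ℂ) (χ : G → ℂ) x := by
    have h5 := h3 1
    rw [tr_apply, mul_one] at h5
    rw [← h5]
    congr 1
    simp
  refine ⟨χ, h1, by rw [h4]; exact h2, fun z hz hp' => ?_⟩
  obtain ⟨l, rfl⟩ := exists_LL h (z := z) (by
    rw [centralizer_zpowers, Subgroup.mem_centralizer_singleton_iff]
    exact hz) hp'
  rw [h3 l, tr_apply, mul_one, h4]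

/-- **Three even degrees.** -/
theorem three_even_of_cent {G : Type u} [Group G] [Finite G] {p : ℕ} [hp : Fact p.Prime] (hp2 : p ≠ 2)
    (hG : ¬ p ^ 2 ∣ Nat.card G) {x : G} (hx : orderOf x = p) (hreal : IsConj x x⁻¹) {n : ℕ}
    (hn : n = 6 ∨ n = 8) (hC : Nat.card (Subgroup.centralizer ({x} : Set G)) = n * p)
    (hnc : ∃ a b : G, Commute a x ∧ Commute b x ∧ a * b ≠ b * a) :
    ∃ χ : Fin 3 → IrrCharacter G, Function.Injective χ ∧ (∀ i, 2 ∣ charDegree (χ i : G → ℂ)) ∧
      ∀ i, ∃ z : G, z ≠ 1 ∧ Commute x z ∧ orderOf z ∣ n ∧ (χ i : G → ℂ) (x * z) ≠ 0 := by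
  classical
  have := Fintype.ofFinite G
  obtain ⟨K, h, hinv⟩ := exists_setup hG hx
  have hx1 : x ≠ 1 := by
    rintro rfl
    rw [orderOf_one] at hx
    exact hp.out.one_lt.ne hx
  have hxP : x ∈ Subgroup.zpowers x := Subgroup.mem_zpowers x
  have hcard : Nat.card (LL (Subgroup.zpowers x) K) = n := by
    have h1 := h.card_eq (T := Subgroup.centralizer ((Subgroup.zpowers x : Subgroup G) : Set G))
      h.le_centralizer centralizer_le_normalizer
    have h2 : Nat.card (Subgroup.centralizer ((Subgroup.zpowers x : Subgroup G) : Set G)) = n * p := by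
      rw [centralizer_zpowers, hC]
    rw [h2] at h1
    exact (Nat.eq_of_mul_eq_mul_right hp.out.pos h1).symm
  have hncL : ¬ ∀ a b : LL (Subgroup.zpowers x) K, a * b = b * a := by
    intro hcomm
    obtain ⟨a, b, ha, hb, hab⟩ := hnc
    apply hab
    have ha' : a ∈ Subgroup.centralizer ((Subgroup.zpowers x : Subgroup G) : Set G) := by
      rw [centralizer_zpowers, Subgroup.mem_centralizer_singleton_iff]; exact ha
    have hb' : b ∈ Subgroup.centralizer ((Subgroup.zpowers x : Subgroup G) : Set G) := by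
      rw [centralizer_zpowers, Subgroup.mem_centralizer_singleton_iff]; exact hb
    obtain ⟨y, l, rfl⟩ := h.dec ha'
    obtain ⟨y', l', rfl⟩ := h.dec hb'
    have e1 : Commute ((l : K) : G) ((l' : K) : G) := by
      have := congrArg (fun w : LL (Subgroup.zpowers x) K => ((w : K) : G)) (hcomm l l')
      exact this
    have e2 : Commute (y : G) ((l : K) : G) := h.comm y.2 (mem_LL.1 l.2)
    have e3 : Commute (y : G) ((l' : K) : G) := h.comm y.2 (mem_LL.1 l'.2)
    have e4 : Commute (y' : G) ((l : K) : G) := h.comm y'.2 (mem_LL.1 l.2)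
    have e5 : Commute (y' : G) ((l' : K) : G) := h.comm y'.2 (mem_LL.1 l'.2)
    have e6 : Commute (y : G) (y' : G) := h.comm y.2 (h.le_centralizer y'.2)
    exact (((e6.mul_right e3).mul_left (e4.symm.mul_right e1))).eq
  obtain ⟨χ, h1, h2, h3⟩ := three_even h hp2 hG hxP hx1 (hinv hreal) hncL (by rw [hcard]; exact hn)
  refine ⟨χ, h1, h2, fun i => ?_⟩
  obtain ⟨l, hl, hl2⟩ := h3 i
  refine ⟨((l : K) : G), fun h4 => hl (Subtype.ext (Subtype.ext h4)), h.comm hxP (mem_LL.1 l.2), ?_, hl2⟩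
  rw [Subgroup.orderOf_coe, Subgroup.orderOf_coe, ← hcard]
  exact orderOf_dvd_natCard l

end Cfsg.Agent.H633.Dl
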